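import Cfsg.Agent.Lib.SympAmalgam.Geom

/-!
Coherent homomorphisms of the plane subgroups and of the short symmetric blocks, their graphs and lifts.
-/

set_option autoImplicit false

namespace CfsgLib.SympAmalgam

variable {n : ℕ} {F : Type*} [Field F] {H : Type*} [Group H]

/-- the indices of the amalgam -/
abbrev Idx (n : ℕ) := Fin n ⊕ {i : Fin n // (i : ℕ) + 1 < n}

/-- the members of the amalgam -/
def fam (F : Type*) [Field F] : Idx n → Subgroup (Sp n F)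
  | .inl j => Sset F j
  | .inr i => Mset F i.1

/-- the least plane involved -/
def lvl : Idx n → ℕ
  | .inl j => j
  | .inr i => i.1

theorem fam_le_Gk {k : ℕ} {a : Idx n} (h : k ≤ lvl a) : fam F a ≤ Gk n F k := by
  rcases a with j | i
  exacts [Sset_le_Gk h, Mset_le_Gk h]

/-- coherent homomorphisms of the amalgam -/
structure Coh (n : ℕ) (F : Type*) [Field F] (H : Type*) [Group H] where
  map : ∀ a : Idx n, ↥(fam F a) →* H
  coh : ∀ a b : Idx n, ∃ Φ : ↥(fam F a ⊔ fam F b) →* H,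
    (∀ g (hg : g ∈ fam F a), Φ ⟨g, Subgroup.mem_sup_left hg⟩ = map a ⟨g, hg⟩) ∧
      (∀ g (hg : g ∈ fam F b), Φ ⟨g, Subgroup.mem_sup_right hg⟩ = map b ⟨g, hg⟩)

namespace Coh

variable (C : Coh n F H)

/-- the graph of one of the maps -/
def gr (a : Idx n) : Subgroup (H × Sp n F) := ((C.map a).prod (fam F a).subtype).range

theorem snd_mem {a : Idx n} {x : H × Sp n F} (hx : x ∈ C.gr a) : x.2 ∈ fam F a := by
  obtain ⟨y, rfl⟩ := hx
  exact y.2

theorem fst_eq {a : Idx n} {x : H × Sp n F} (hx : x ∈ C.gr a) :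
    x.1 = C.map a ⟨x.2, C.snd_mem hx⟩ := by
  obtain ⟨y, rfl⟩ := hx
  rfl

/-- elements of the join of two graphs are determined by the matrix -/
theorem eq_of_snd {a b : Idx n} {x y : H × Sp n F} (hx : x ∈ C.gr a ⊔ C.gr b) (hy : y ∈ C.gr a ⊔ C.gr b)
    (h : x.2 = y.2) : x = y := by
  obtain ⟨Φ, h1, h2⟩ := C.coh a b
  have hle : C.gr a ⊔ C.gr b ≤ (Φ.prod (fam F a ⊔ fam F b).subtype).range := by
    refine sup_le ?_ ?_
    · rintro _ ⟨u, rfl⟩
      exact ⟨⟨u, Subgroup.mem_sup_left u.2⟩, Prod.ext (h1 u u.2) rfl⟩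
    · rintro _ ⟨u, rfl⟩
      exact ⟨⟨u, Subgroup.mem_sup_right u.2⟩, Prod.ext (h2 u u.2) rfl⟩
  obtain ⟨u, rfl⟩ := hle hx
  obtain ⟨v, rfl⟩ := hle hy
  exact congrArg _ (Subtype.ext h : u = v)

theorem eq_of_snd_one {a : Idx n} {x y : H × Sp n F} (hx : x ∈ C.gr a) (hy : y ∈ C.gr a)
    (h : x.2 = y.2) : x = y :=
  C.eq_of_snd (a := a) (b := a) (Subgroup.mem_sup_left hx) (Subgroup.mem_sup_left hy) h

/-- elements of two graphs commute if their matrices do -/
theorem commute_of_snd {a b : Idx n} {x y : H × Sp n F} (hx : x ∈ C.gr a) (hy : y ∈ C.gr b)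
    (h : x.2 * y.2 = y.2 * x.2) : x * y = y * x :=
  C.eq_of_snd (a := a) (b := b) (mul_mem (Subgroup.mem_sup_left hx) (Subgroup.mem_sup_right hy))
    (mul_mem (Subgroup.mem_sup_right hy) (Subgroup.mem_sup_left hx)) h

open Classical in
/-- the lift of an element -/
noncomputable def lift (a : Idx n) (g : Sp n F) : H × Sp n F :=
  if h : g ∈ fam F a then (C.map a ⟨g, h⟩, g) else 1

theorem lift_mem (a : Idx n) (g : Sp n F) : C.lift a g ∈ C.gr a := by
  classical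
  rw [lift]
  split
  · exact ⟨⟨g, by assumption⟩, rfl⟩
  · exact one_mem _

theorem snd_lift {a : Idx n} {g : Sp n F} (h : g ∈ fam F a) : (C.lift a g).2 = g := by
  classical
  rw [lift, dif_pos h]

theorem eq_lift {a : Idx n} {x : H × Sp n F} (hx : x ∈ C.gr a) {g : Sp n F} (h : x.2 = g) :
    x = C.lift a g :=
  C.eq_of_snd_one hx (C.lift_mem a g) (by rw [h, C.snd_lift (h ▸ C.snd_mem hx)])

theorem lift_one (a : Idx n) : C.lift a 1 = 1 := (C.eq_lift (one_mem _) rfl).symm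

theorem lift_mul {a : Idx n} {g g' : Sp n F} (h : g ∈ fam F a) (h' : g' ∈ fam F a) :
    C.lift a (g * g') = C.lift a g * C.lift a g' :=
  (C.eq_lift (mul_mem (C.lift_mem a g) (C.lift_mem a g'))
    (by rw [Prod.snd_mul, C.snd_lift h, C.snd_lift h'])).symm

theorem lift_inv {a : Idx n} {g : Sp n F} (h : g ∈ fam F a) : C.lift a g⁻¹ = (C.lift a g)⁻¹ :=
  (C.eq_lift (inv_mem (C.lift_mem a g)) (by rw [Prod.snd_inv, C.snd_lift h])).symm

/-- to put a plane graph into a subgroup it suffices to check the two families of transvections -/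
theorem gr_inl_le {j : Fin n} {K : Subgroup (H × Sp n F)}
    (h1 : ∀ c, C.lift (.inl j) (tvv (ev F j) c) ∈ K) (h2 : ∀ c, C.lift (.inl j) (tvv (fv F j) c) ∈ K) :
    C.gr (.inl j) ≤ K := by
  intro x hx
  suffices ∀ g ∈ Subgroup.closure {g : Sp n F | ∃ c, g = tvv (ev F j) c ∨ g = tvv (fv F j) c},
      g ∈ Sset F j ∧ C.lift (.inl j) g ∈ K by
    rw [C.eq_lift hx rfl]
    exact (this _ (Sset_le_closure j (C.snd_mem hx))).2
  intro g hg
  induction hg using Subgroup.closure_induction with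
  | mem g hg =>
    obtain ⟨c, rfl | rfl⟩ := hg
    exacts [⟨tvv_ev_mem _ _, h1 c⟩, ⟨tvv_fv_mem _ _, h2 c⟩]
  | one => exact ⟨one_mem _, by rw [C.lift_one]; exact one_mem _⟩
  | mul g g' _ _ a b =>
    exact ⟨mul_mem a.1 b.1, by rw [C.lift_mul (a := .inl j) a.1 b.1]; exact mul_mem a.2 b.2⟩
  | inv g _ a => exact ⟨inv_mem a.1, by rw [C.lift_inv (a := .inl j) a.1]; exact inv_mem a.2⟩

/-- the graph group of the planes of index at least `k` -/
def Ek (k : ℕ) : Subgroup (H × Sp n F) := ⨆ (a : Idx n) (_ : k ≤ lvl a), C.gr a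

theorem gr_le_Ek {k : ℕ} {a : Idx n} (h : k ≤ lvl a) : C.gr a ≤ C.Ek k :=
  le_iSup₂ (f := fun (b : Idx n) (_ : k ≤ lvl b) => C.gr b) a h

theorem Ek_le {k : ℕ} {K : Subgroup (H × Sp n F)} (h : ∀ a : Idx n, k ≤ lvl a → C.gr a ≤ K) : C.Ek k ≤ K :=
  iSup₂_le h

theorem Ek_mono {k l : ℕ} (h : k ≤ l) : C.Ek l ≤ C.Ek k :=
  C.Ek_le fun _ ha => C.gr_le_Ek (h.trans ha)

theorem Ek_snd {k : ℕ} {x : H × Sp n F} (hx : x ∈ C.Ek k) : x.2 ∈ Gk n F k :=
  C.Ek_le (K := (Gk n F k).comap (MonoidHom.snd H (Sp n F)))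
    (fun _ ha _ hy => fam_le_Gk ha (C.snd_mem hy)) hx

/-- the graph group maps isomorphically onto the symplectic group of the planes of index at least `k` -/
def Level (k : ℕ) : Prop :=
  (∀ x ∈ C.Ek k, x.2 = 1 → x = 1) ∧ ∀ g ∈ Gk n F k, ∃ x ∈ C.Ek k, x.2 = g

theorem Level.eq {C : Coh n F H} {k : ℕ} (hL : C.Level k) {x y : H × Sp n F} (hx : x ∈ C.Ek k)
    (hy : y ∈ C.Ek k) (h : x.2 = y.2) : x = y :=
  mul_inv_eq_one.1 (hL.1 _ (mul_mem hx (inv_mem hy)) (by rw [Prod.snd_mul, Prod.snd_inv, h, mul_inv_cancel]))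

end Coh

end CfsgLib.SympAmalgam
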