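import Cfsg.Agent.Lib.Linear.Symplectic

/-!
Elements of the symplectic group used for the amalgam of the `SL₂`-planes and the short symmetric blocks:
Siegel elements, the rank one torus and Weyl elements, and the rank one and block subgroups.
-/

set_option autoImplicit false
set_option linter.unusedSectionVars false

namespace CfsgLib.SympAmalgam

open Matrix Cfsg CfsgLib.Linear.Symp

variable {n : ℕ} {F : Type*} [Field F]

/-- the vectors -/
abbrev Vec (n : ℕ) (F : Type*) := Fin n ⊕ Fin n → F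

/-- the group -/
abbrev Sp (n : ℕ) (F : Type*) [Field F] := ↥(symplecticGroup (Fin n) F)

/-- the first half of the hyperbolic basis -/
abbrev ev (F : Type*) [Field F] (j : Fin n) : Vec n F := Pi.single (.inl j) 1

/-- the second half of the hyperbolic basis -/
abbrev fv (F : Type*) [Field F] (j : Fin n) : Vec n F := Pi.single (.inr j) 1

/-- the form normalised with `om e_j f_j = 1` -/
def om (x y : Vec n F) : F := sympForm n F y x

theorem om_add_left (x x' y : Vec n F) : om (x + x') y = om x y + om x' y := form_add_right _ _ _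
theorem om_add_right (x y y' : Vec n F) : om x (y + y') = om x y + om x y' := form_add_left _ _ _
theorem om_sub_left (x x' y : Vec n F) : om (x - x') y = om x y - om x' y := form_sub_right _ _ _
theorem om_sub_right (x y y' : Vec n F) : om x (y - y') = om x y - om x y' := form_sub_left _ _ _
theorem om_smul_left (a : F) (x y : Vec n F) : om (a • x) y = a * om x y := form_smul_right _ _ _
theorem om_smul_right (a : F) (x y : Vec n F) : om x (a • y) = a * om x y := form_smul_left _ _ _
theorem om_neg_left (x y : Vec n F) : om (-x) y = -om x y := form_neg_right _ _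
theorem om_neg_right (x y : Vec n F) : om x (-y) = -om x y := form_neg_left _ _
theorem om_self (x : Vec n F) : om x x = 0 := form_self _
theorem om_swap (x y : Vec n F) : om y x = -om x y := form_swap _ _
theorem om_zero_left (y : Vec n F) : om 0 y = 0 := form_zero_right _
theorem om_zero_right (x : Vec n F) : om x 0 = 0 := form_zero_left _

theorem om_ev_right (x : Vec n F) (j : Fin n) : om x (ev F j) = -x (.inr j) := by
  rw [om, form_swap, form_single_inl]

theorem om_fv_right (x : Vec n F) (j : Fin n) : om x (fv F j) = x (.inl j) := by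
  rw [om, form_swap, form_single_inr, neg_neg]

theorem om_ev_left (y : Vec n F) (j : Fin n) : om (ev F j) y = y (.inr j) := by
  rw [om_swap, om_ev_right, neg_neg]

theorem om_fv_left (y : Vec n F) (j : Fin n) : om (fv F j) y = -y (.inl j) := by
  rw [om_swap, om_fv_right]

theorem om_smul_smul (g : Sp n F) (x y : Vec n F) : om (g • x) (g • y) = om x y := form_smul_smul _ _ _

theorem vec_ext {x y : Vec n F} (h1 : ∀ j, x (.inl j) = y (.inl j)) (h2 : ∀ j, x (.inr j) = y (.inr j)) :
    x = y := funext fun i => i.rec h1 h2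

/-- the transvection `x ↦ x + c om(x,v) v` -/
def tvv (v : Vec n F) (c : F) : Sp n F := tv v (-c)

theorem tvv_smul (v x : Vec n F) (c : F) : tvv v c • x = x + (c * om x v) • v := by
  rw [tvv, tv_smul, om, form_swap x v]
  congr 2
  ring

theorem tvv_add (v : Vec n F) (c d : F) : tvv v c * tvv v d = tvv v (c + d) := by
  rw [tvv, tvv, tvv, tv_add, neg_add]

theorem tvv_zero (v : Vec n F) : tvv v 0 = 1 := by rw [tvv, neg_zero, tv_zero]

theorem tvv_inv (v : Vec n F) (c : F) : (tvv v c)⁻¹ = tvv v (-c) := by rw [tvv, tvv, tv_inv]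

theorem tvv_conj (g : Sp n F) (v : Vec n F) (c : F) : g * tvv v c * g⁻¹ = tvv (g • v) c := tv_conj _ _ _

theorem tvv_smul_vec (a : F) (v : Vec n F) (c : F) : tvv (a • v) c = tvv v (a * a * c) := by
  rw [tvv, tvv, tv_smul_vec, mul_neg]

theorem tvv_neg_vec (v : Vec n F) (c : F) : tvv (-v) c = tvv v c := by
  rw [← neg_one_smul F v, tvv_smul_vec]
  congr 1
  ring

theorem commute_of_fix (g : Sp n F) {v : Vec n F} (c : F) (h : g • v = v) : g * tvv v c = tvv v c * g := by
  have := tvv_conj g v c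
  rw [h] at this
  rw [← this, inv_mul_cancel_right, this]

/-- the Siegel element `x ↦ x + om(x,e) w + om(x,w) e + s om(x,e) e` (for `om e w = 0`) -/
def qel (e w : Vec n F) (s : F) : Sp n F := tvv (e + w) 1 * tvv e (s - 1) * tvv w (-1)

theorem qel_smul {e w : Vec n F} (h : om e w = 0) (s : F) (x : Vec n F) :
    qel e w s • x = x + om x e • w + om x w • e + (s * om x e) • e := by
  have h' : om w e = 0 := by rw [om_swap, h, neg_zero]
  simp only [qel, mul_smul, tvv_smul, om_add_left, om_add_right, om_smul_left, om_self, h, h']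
  module

theorem qel_conj (g : Sp n F) (e w : Vec n F) (s : F) : g * qel e w s * g⁻¹ = qel (g • e) (g • w) s := by
  rw [qel, qel, ← smul_add, ← tvv_conj, ← tvv_conj, ← tvv_conj]
  group

theorem qel_zero (e : Vec n F) (s : F) : qel e 0 s = tvv e s := by
  refine group_ext fun x => ?_
  rw [qel_smul (om_zero_right _), tvv_smul, om_zero_right]
  module

theorem qel_mul {e w w' : Vec n F} (h : om e w = 0) (h' : om e w' = 0) (s s' : F) :
    qel e w s * qel e w' s' = qel e (w + w') (s + s' + om w' w) := by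
  have h2 : om w' e = 0 := by rw [om_swap, h', neg_zero]
  refine group_ext fun x => ?_
  rw [mul_smul, qel_smul h', qel_smul h, qel_smul (by rw [om_add_right, h, h', add_zero])]
  simp only [om_add_left, om_add_right, om_smul_left, om_self, h, h2]
  module

theorem qel_symm {e w : Vec n F} (h : om e w = 0) : qel e w 0 = qel w e 0 := by
  refine group_ext fun x => ?_
  rw [qel_smul h, qel_smul (by rw [om_swap, h, neg_zero])]
  module

theorem qel_smul_fst {e w : Vec n F} (h : om e w = 0) (a : F) (s : F) :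
    qel (a • e) w s = qel e (a • w) (a * a * s) := by
  refine group_ext fun x => ?_
  rw [qel_smul (by rw [om_smul_left, h, mul_zero]), qel_smul (by rw [om_smul_right, h, mul_zero])]
  simp only [om_smul_right]
  module

theorem qel_neg_fst {e w : Vec n F} (h : om e w = 0) (s : F) : qel (-e) w s = qel e (-w) s := by
  rw [← neg_one_smul F e, qel_smul_fst h, neg_one_smul]
  congr 1
  ring

theorem qel_fix {e w v : Vec n F} (h : om e w = 0) (s : F) (h1 : om v e = 0) (h2 : om v w = 0) :
    qel e w s • v = v := by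
  rw [qel_smul h, h1, h2]
  module

/-- `e_j ↦ c⁻¹ f_j`, `f_j ↦ -c e_j` -/
def nel (j : Fin n) (c : F) : Sp n F := tvv (ev F j) c * tvv (fv F j) c⁻¹ * tvv (ev F j) c

/-- the torus element of the `j`th plane -/
def tor (j : Fin n) (a : F) : Sp n F := nel j a * nel j (-1)

theorem om_ev_fv (j : Fin n) : om (ev F j) (fv F j) = 1 := by simp [om_ev_left]
theorem om_fv_ev (j : Fin n) : om (fv F j) (ev F j) = -1 := by simp [om_fv_left]
theorem om_ev_ev (i j : Fin n) : om (ev F i) (ev F j) = 0 := by simp [om_ev_left]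
theorem om_fv_fv (i j : Fin n) : om (fv F i) (fv F j) = 0 := by simp [om_fv_left]

theorem nel_ev (j : Fin n) {c : F} (hc : c ≠ 0) : nel j c • ev F j = c⁻¹ • fv F j := by
  simp only [nel, mul_smul, tvv_smul, om_self, om_ev_fv, om_fv_ev, om_add_left, om_smul_left]
  match_scalars <;> field_simp <;> ring

theorem nel_fv (j : Fin n) {c : F} (hc : c ≠ 0) : nel j c • fv F j = -c • ev F j := by
  simp only [nel, mul_smul, tvv_smul, om_self, om_ev_fv, om_fv_ev, om_add_left, om_smul_left]
  match_scalars <;> field_simp <;> ring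

theorem tor_ev (j : Fin n) {a : F} (ha : a ≠ 0) : tor j a • ev F j = a • ev F j := by
  rw [tor, mul_smul, nel_ev j (neg_ne_zero.2 one_ne_zero), smul_comm, nel_fv j ha]
  module

theorem tor_fv (j : Fin n) {a : F} (ha : a ≠ 0) : tor j a • fv F j = a⁻¹ • fv F j := by
  rw [tor, mul_smul, nel_fv j (neg_ne_zero.2 one_ne_zero), smul_comm, nel_ev j ha]
  module

/-- vectors fixed by the `j`th plane elements -/
theorem plane_fix {j : Fin n} {v : Vec n F} (h1 : v (.inl j) = 0) (h2 : v (.inr j) = 0) (c : F) :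
    tvv (ev F j) c • v = v ∧ tvv (fv F j) c • v = v ∧ nel j c • v = v ∧ tor j c • v = v := by
  have e1 : ∀ d, tvv (ev F j) d • v = v := fun d => by
    rw [tvv_smul, om_ev_right, h2, neg_zero, mul_zero, zero_smul, add_zero]
  have e2 : ∀ d, tvv (fv F j) d • v = v := fun d => by
    rw [tvv_smul, om_fv_right, h1, mul_zero, zero_smul, add_zero]
  have e3 : ∀ d : F, nel j d • v = v := fun d => by rw [nel, mul_smul, mul_smul, e1, e2, e1]
  exact ⟨e1 c, e2 c, e3 c, by rw [tor, mul_smul, e3, e3]⟩

/-- the indices below `k` -/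
def lo (n k : ℕ) : Finset (Fin n) := Finset.univ.filter fun i => (i : ℕ) < k

theorem mem_lo {k : ℕ} {i : Fin n} : i ∈ lo n k ↔ (i : ℕ) < k := by simp [lo]

/-- the symplectic group of the planes of index at least `k` -/
abbrev Gk (n : ℕ) (F : Type*) [Field F] (k : ℕ) : Subgroup (Sp n F) := pairsFixer (lo n k) F

/-- the vectors of the planes of index at least `k` -/
abbrev Vk (k : ℕ) (x : Vec n F) : Prop := InW (lo n k) x

theorem Gk_mono {k l : ℕ} (h : k ≤ l) : Gk n F l ≤ Gk n F k :=
  fun _ hg j hj => hg j (mem_lo.2 ((mem_lo.1 hj).trans_le h))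

theorem ev_Vk {k : ℕ} {j : Fin n} (h : k ≤ j) : Vk k (ev F j) :=
  (inW_single (by rw [mem_lo]; omega)).1

theorem fv_Vk {k : ℕ} {j : Fin n} (h : k ≤ j) : Vk k (fv F j) :=
  (inW_single (by rw [mem_lo]; omega)).2

theorem Vk_neg {k : ℕ} {x : Vec n F} (hx : Vk k x) : Vk k (-x) := by
  simpa using inW_smul hx (-1 : F)

theorem Vk_zero (k : ℕ) : Vk k (0 : Vec n F) := fun _ _ => ⟨rfl, rfl⟩

theorem om_ev_Vk {k : ℕ} {j : Fin n} (h : (j : ℕ) < k) {x : Vec n F} (hx : Vk k x) :
    om (ev F j) x = 0 ∧ om x (ev F j) = 0 ∧ om (fv F j) x = 0 ∧ om x (fv F j) = 0 := by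
  obtain ⟨h1, h2⟩ := hx j (mem_lo.2 h)
  rw [om_ev_left, om_ev_right, om_fv_left, om_fv_right, h1, h2]
  simp

theorem tvv_mem_Gk {k : ℕ} {v : Vec n F} (hv : Vk k v) (c : F) : tvv v c ∈ Gk n F k := fun _ hj =>
  transvectionSubgroupW_fix (tv_mem_W hv _) hj

theorem qel_mem_Gk {k : ℕ} {e w : Vec n F} (he : Vk k e) (hw : Vk k w) (s : F) : qel e w s ∈ Gk n F k :=
  mul_mem (mul_mem (tvv_mem_Gk (inW_add he hw) _) (tvv_mem_Gk he _)) (tvv_mem_Gk hw _)

theorem exists_Gk_smul {k : ℕ} {v v' : Vec n F} (hv : Vk k v) (hv' : Vk k v') (h : v ≠ 0) (h' : v' ≠ 0) :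
    ∃ g ∈ Gk n F k, g • v = v' :=
  let ⟨g, hg, e⟩ := exists_smul_eq_inW hv hv' h h'
  ⟨g, fun _ hj => transvectionSubgroupW_fix hg hj, e⟩

theorem exists_Gk_smul_pair {k : ℕ} {u v u' v' : Vec n F} (hu : Vk k u) (hv : Vk k v) (hu' : Vk k u')
    (hv' : Vk k v') (h : om u v = 1) (h' : om u' v' = 1) : ∃ g ∈ Gk n F k, g • u = u' ∧ g • v = v' := by
  obtain ⟨g, hg, e1, e2⟩ := exists_smul_pair_inW hv hu hv' hu' h h'
  exact ⟨g, fun _ hj => transvectionSubgroupW_fix hg hj, e2, e1⟩

/-- elements fixing the planes other than the `j`th -/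
def Sset (F : Type*) [Field F] (j : Fin n) : Subgroup (Sp n F) := pairsFixer (Finset.univ.erase j) F

theorem mem_Sset {j : Fin n} {g : Sp n F} :
    g ∈ Sset F j ↔ ∀ k, k ≠ j → g • ev F k = ev F k ∧ g • fv F k = fv F k := by
  simp [Sset, pairsFixer]

theorem tvv_ev_mem (j : Fin n) (c : F) : tvv (ev F j) c ∈ Sset F j :=
  mem_Sset.2 fun _ hk => ⟨(plane_fix (by simp [Ne.symm hk]) (by simp) c).1,
    (plane_fix (by simp) (by simp [Ne.symm hk]) c).1⟩

theorem tvv_fv_mem (j : Fin n) (c : F) : tvv (fv F j) c ∈ Sset F j :=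
  mem_Sset.2 fun _ hk => ⟨(plane_fix (by simp [Ne.symm hk]) (by simp) c).2.1,
    (plane_fix (by simp) (by simp [Ne.symm hk]) c).2.1⟩

theorem nel_mem (j : Fin n) (c : F) : nel j c ∈ Sset F j :=
  mul_mem (mul_mem (tvv_ev_mem _ _) (tvv_fv_mem _ _)) (tvv_ev_mem _ _)

theorem tor_mem (j : Fin n) (c : F) : tor j c ∈ Sset F j := mul_mem (nel_mem _ _) (nel_mem _ _)

theorem Sset_le_Gk {k : ℕ} {j : Fin n} (h : k ≤ j) : Sset F j ≤ Gk n F k := fun _ hg i hi =>
  mem_Sset.1 hg i fun e => by subst e; have := mem_lo.1 hi; omega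

theorem Sset_le_closure (j : Fin n) :
    Sset F j ≤ Subgroup.closure {g | ∃ c, g = tvv (ev F j) c ∨ g = tvv (fv F j) c} := by
  classical
  set K := Subgroup.closure {g : Sp n F | ∃ c, g = tvv (ev F j) c ∨ g = tvv (fv F j) c}
  have he : ∀ c, tvv (ev F j) c ∈ K := fun c => Subgroup.subset_closure ⟨c, Or.inl rfl⟩
  have hf : ∀ c, tvv (fv F j) c ∈ K := fun c => Subgroup.subset_closure ⟨c, Or.inr rfl⟩
  intro g hg
  have supp : ∀ (g : Sp n F), g ∈ Sset F j → ∀ v : Vec n F, (∀ k, k ≠ j → v (.inl k) = 0 ∧ v (.inr k) = 0) →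
      ∀ k, k ≠ j → (g • v) (.inl k) = 0 ∧ (g • v) (.inr k) = 0 := by
    intro g hg v hv k hk
    have a := pairsFixer_inW hg (x := v) (fun i hi => hv i (Finset.ne_of_mem_erase hi))
    exact a k (Finset.mem_erase.2 ⟨hk, Finset.mem_univ _⟩)
  have supe : ∀ (g : Sp n F), g ∈ Sset F j →
      g • ev F j = (g • ev F j) (.inl j) • ev F j + (g • ev F j) (.inr j) • fv F j := by
    intro g hg
    have h := supp g hg (ev F j) (fun k hk => by simp [hk])
    refine vec_ext (fun k => ?_) (fun k => ?_) <;> by_cases hk : k = j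
    all_goals first | (subst hk; simp; done) | simp [hk, (h k hk).1, (h k hk).2]
  have case1 : ∀ (g : Sp n F), g ∈ Sset F j → (g • ev F j) (.inr j) ≠ 0 → g ∈ K := by
    intro g hg hb
    set b := (g • ev F j) (.inr j) with hb'
    set a := (g • ev F j) (.inl j) with ha'
    set p := (1 - a) / b with hp
    set g₁ := (tvv (ev F j) p * tvv (fv F j) b)⁻¹ * g with hg1
    have h1K : tvv (ev F j) p * tvv (fv F j) b ∈ K := mul_mem (he _) (hf _)
    have h1S : g₁ ∈ Sset F j := mul_mem (inv_mem (mul_mem (tvv_ev_mem _ _) (tvv_fv_mem _ _))) hg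
    have hfix : g₁ • ev F j = ev F j := by
      rw [hg1, mul_smul, inv_smul_eq_iff, supe g hg, mul_smul, tvv_smul (fv F j), om_ev_fv, tvv_smul,
        om_add_left, om_self, om_smul_left, om_fv_ev]
      match_scalars <;> simp [hp, ← ha', ← hb'] <;> field_simp <;> ring
    set c := (g₁ • fv F j) (.inl j) with hc'
    have hdef : g₁ = tvv (ev F j) (-c) := by
      have hd : (g₁ • fv F j) (.inr j) = 1 := by
        have := om_smul_smul g₁ (ev F j) (fv F j)
        rwa [hfix, om_ev_fv, om_ev_left] at this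
      have hsup := supp g₁ h1S (fv F j) (fun k hk => by simp [hk])
      refine Subtype.ext (ext_of_mulVec_single fun i => ?_)
      rcases i with k | k <;> by_cases hk : k = j
      · subst hk
        exact hfix.trans (by rw [← smul_def, tvv_smul, om_self, mul_zero, zero_smul, add_zero])
      · exact (mem_Sset.1 h1S k hk).1.trans (mem_Sset.1 (tvv_ev_mem j _) k hk).1.symm
      · subst hk
        show g₁ • fv F k = tvv (ev F k) (-c) • fv F k
        rw [tvv_smul, om_fv_ev]
        refine vec_ext (fun i => ?_) (fun i => ?_) <;> by_cases hi : i = k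
        all_goals first | (subst hi; simp [hd, hc']; done) | simp [hi, (hsup i hi).1, (hsup i hi).2]
      · exact (mem_Sset.1 h1S k hk).2.trans (mem_Sset.1 (tvv_ev_mem j _) k hk).2.symm
    have : g = tvv (ev F j) p * tvv (fv F j) b * g₁ := by rw [hg1, mul_inv_cancel_left]
    rw [this, hdef]
    exact mul_mem h1K (he _)
  by_cases hb : (g • ev F j) (.inr j) = 0
  · have hn : nel j (1 : F) ∈ K := mul_mem (mul_mem (he _) (hf _)) (he _)
    have ha : (g • ev F j) (.inl j) ≠ 0 := by
      intro ha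
      have := supe g hg
      rw [ha, hb, zero_smul, zero_smul, add_zero] at this
      have := (smul_ne_zero_iff_ne g).2 (show ev F j ≠ 0 by simp) this
      exact this
    have := case1 (nel j 1 * g) (mul_mem (nel_mem _ _) hg) (by
      rw [mul_smul, supe g hg, smul_add, smul_comm, smul_comm (nel j (1 : F)), nel_ev j one_ne_zero,
        nel_fv j one_ne_zero]
      simp [ha])
    simpa using mul_mem (inv_mem hn) this
  · exact case1 g hg hb

/-- elements of the short symmetric block at `i, i+1` -/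
def Mset (F : Type*) [Field F] (i : Fin n) : Subgroup (Sp n F) :=
  fixingSubgroup (Sp n F) {v : Vec n F | (∃ k, v = ev F k) ∨
    ∃ k : Fin n, (k : ℕ) ≠ i ∧ (k : ℕ) ≠ (i : ℕ) + 1 ∧ v = fv F k}

theorem mem_Mset {i : Fin n} {g : Sp n F} : g ∈ Mset F i ↔ (∀ k : Fin n, g • ev F k = ev F k) ∧
    ∀ k : Fin n, (k : ℕ) ≠ i → (k : ℕ) ≠ (i : ℕ) + 1 → g • fv F k = fv F k := by
  rw [Mset, mem_fixingSubgroup_iff]
  constructor
  · exact fun h => ⟨fun k => h _ (Or.inl ⟨k, rfl⟩), fun k h1 h2 => h _ (Or.inr ⟨k, h1, h2, rfl⟩)⟩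
  · rintro ⟨h1, h2⟩ v (⟨k, rfl⟩ | ⟨k, a, b, rfl⟩)
    exacts [h1 k, h2 k a b]

theorem Mset_le_Gk {k : ℕ} {i : Fin n} (h : k ≤ i) : Mset F i ≤ Gk n F k := fun _ hg l hl =>
  ⟨(mem_Mset.1 hg).1 l, (mem_Mset.1 hg).2 l (by have := mem_lo.1 hl; omega) (by have := mem_lo.1 hl; omega)⟩

theorem qel_mem_Mset {i j : Fin n} (hj : (j : ℕ) = i + 1) (a s : F) :
    qel (ev F i) (a • ev F j) s ∈ Mset F i := by
  have h : om (ev F i) (a • ev F j) = 0 := by rw [om_smul_right, om_ev_ev, mul_zero]
  refine mem_Mset.2 ⟨fun k => qel_fix h s (om_ev_ev _ _) (by rw [om_smul_right, om_ev_ev, mul_zero]),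
    fun k h1 h2 => qel_fix h s ?_ ?_⟩
  · simp [om_fv_left, show k ≠ i from fun e => h1 (congrArg Fin.val e)]
  · simp [om_fv_left, show k ≠ j from fun e => h2 (by rw [← hj, e])]

theorem tvv_mem_Mset {i j : Fin n} (hj : (j : ℕ) = i + 1) (t : F) : tvv (ev F j) t ∈ Mset F i := by
  refine mem_Mset.2 ⟨fun k => ?_, fun k _ h2 => ?_⟩
  · rw [tvv_smul, om_ev_ev, mul_zero, zero_smul, add_zero]
  · simp [tvv_smul, om_fv_left, show k ≠ j from fun e => h2 (by rw [← hj, e])]

theorem tvv_mem_Mset' {i j : Fin n} (hj : (j : ℕ) = i + 1) (s : F) : tvv (ev F i) s ∈ Mset F i := by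
  have := qel_mem_Mset (F := F) hj 0 s
  rwa [zero_smul, qel_zero] at this

theorem Mset_decomp {i j : Fin n} (hj : (j : ℕ) = i + 1) {g : Sp n F} (hg : g ∈ Mset F i) :
    ∃ a s t : F, g = qel (ev F i) (a • ev F j) 0 * tvv (ev F i) s * tvv (ev F j) t := by
  obtain ⟨h1, h2⟩ := mem_Mset.1 hg
  have hij : i ≠ j := fun e => by rw [e] at hj; omega
  have hr : ∀ (x : Vec n F) k, (g • x) (.inr k) = x (.inr k) := fun x k => by
    have := om_smul_smul g (ev F k) x
    rwa [h1, om_ev_left, om_ev_left] at this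
  have hl : ∀ (x : Vec n F) k, k ≠ i → k ≠ j → (g • x) (.inl k) = x (.inl k) := fun x k a b => by
    have := om_smul_smul g x (fv F k)
    rwa [h2 k (fun e => a (Fin.ext e)) (fun e => b (Fin.ext (e.trans hj.symm))), om_fv_right,
      om_fv_right] at this
  have hrel : (g • fv F i) (.inl j) = (g • fv F j) (.inl i) := by
    have e := om_smul_smul g (fv F i) (fv F j)
    have d : g • fv F i = fv F i + (g • fv F i) (.inl i) • ev F i + (g • fv F i) (.inl j) • ev F j := by
      refine vec_ext (fun k => ?_) (fun k => ?_)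
      · by_cases hki : k = i
        · subst hki; simp [hij]
        · by_cases hkj : k = j
          · subst hkj; simp [hij.symm]
          · rw [hl _ k hki hkj]; simp [hki, hkj]
      · rw [hr]; simp
    rw [d, om_fv_fv] at e
    simp only [om_add_left, om_smul_left, om_fv_left, om_ev_left, hr] at e
    simp [hij] at e
    linear_combination e
  refine ⟨-(g • fv F i) (.inl j), -(g • fv F i) (.inl i), -(g • fv F j) (.inl j), ?_⟩
  have ho : ∀ a : F, om (ev F i) (a • ev F j) = 0 := fun a => by rw [om_smul_right, om_ev_ev, mul_zero]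
  refine Subtype.ext (ext_of_mulVec_single fun m => ?_)
  rcases m with k | k
  · have hm := mul_mem (mul_mem (qel_mem_Mset hj (-(g • fv F i) (.inl j)) 0)
      (tvv_mem_Mset' hj (-(g • fv F i) (.inl i)))) (tvv_mem_Mset hj (-(g • fv F j) (.inl j)))
    exact (h1 k).trans ((mem_Mset.1 hm).1 k).symm
  · rw [← smul_def, ← smul_def, mul_smul, mul_smul, tvv_smul (ev F j), tvv_smul (ev F i), qel_smul (ho _)]
    refine vec_ext (fun l => ?_) (fun l => ?_)
    · simp only [om_fv_left, om_ev_left, om_add_left, om_smul_left, om_smul_right, Pi.add_apply,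
        Pi.smul_apply, Pi.single_apply, smul_eq_mul]
      by_cases hki : k = i
      · subst hki
        by_cases hli : l = k
        · subst hli; simp [hij, hij.symm]
        · by_cases hlj : l = j
          · subst hlj; simp [hij, hij.symm]
          · rw [hl _ l hli hlj]; simp [hij, hij.symm, hli, hlj]
      · by_cases hkj : k = j
        · subst hkj
          by_cases hli : l = i
          · subst hli; simp [hij, hij.symm, hrel]
          · by_cases hlj : l = k
            · subst hlj; simp [hij, hij.symm]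
            · rw [hl _ l hli hlj]; simp [hij, hij.symm, hli, hlj]
        · rw [show g • Pi.single (Sum.inr k) 1 = fv F k from
            h2 k (fun e => hki (Fin.ext e)) (fun e => hkj (Fin.ext (e.trans hj.symm)))]
          simp [hki, hkj]
    · rw [hr]; simp

end CfsgLib.SympAmalgam
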