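import Cfsg.Agent.Lib.SympAmalgam.Rel

/-!
The cells of the inductive step and the completion theorem.
-/

set_option autoImplicit false

namespace CfsgLib.SympAmalgam

open CfsgLib.Linear.Symp

variable {n : ℕ} {F : Type*} [Field F] {H : Type*} [Group H]

namespace St

variable (D : St n F H)

/-- the cell of vectors with a component at `f₁` -/
def Cell1 (x : H × Sp n F) : Prop :=
  ∃ w, D.V' w ∧ ∃ s b : F, b ≠ 0 ∧ ∃ p ∈ D.P, x = D.u w * D.z s * D.w1 * D.t1 b * p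

/-- the cell of vectors with a component in the smaller space only -/
def Cell2 (x : H × Sp n F) : Prop :=
  ∃ g ∈ D.G', ∃ a : F, ∃ p ∈ D.P, x = D.io g * D.X a * D.r * p

/-- the cell of multiples of `e₁` -/
def Cell3 (x : H × Sp n F) : Prop := ∃ a : F, a ≠ 0 ∧ ∃ p ∈ D.P, x = D.t1 a * p

/-- the union of the cells -/
def InC (x : H × Sp n F) : Prop := D.Cell1 x ∨ D.Cell2 x ∨ D.Cell3 x

theorem InC_one : D.InC 1 := Or.inr (Or.inr ⟨1, one_ne_zero, 1, one_mem _, by rw [D.t1_one, one_mul]⟩)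

theorem InC_mul {x p : H × Sp n F} (hx : D.InC x) (hp : p ∈ D.P) : D.InC (x * p) := by
  rcases hx with ⟨w, hw, s, b, hb, q, hq, rfl⟩ | ⟨g, hg, a, q, hq, rfl⟩ | ⟨a, ha, q, hq, rfl⟩
  · exact Or.inl ⟨w, hw, s, b, hb, q * p, mul_mem hq hp, by simp only [mul_assoc]⟩
  · exact Or.inr (Or.inl ⟨g, hg, a, q * p, mul_mem hq hp, by simp only [mul_assoc]⟩)
  · exact Or.inr (Or.inr ⟨a, ha, q * p, mul_mem hq hp, by simp only [mul_assoc]⟩)

theorem io_InC {g : Sp n F} (hg : g ∈ D.G') {x : H × Sp n F} (hx : D.InC x) : D.InC (D.io g * x) := by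
  rcases hx with ⟨w, hw, s, b, hb, q, hq, rfl⟩ | ⟨h, hh, a, q, hq, rfl⟩ | ⟨a, ha, q, hq, rfl⟩
  · refine Or.inl ⟨g • w, D.G'_V hg hw, s, b, hb, D.io g * q, mul_mem (D.io_P hg) hq, ?_⟩
    calc D.io g * (D.u w * D.z s * D.w1 * D.t1 b * q)
        = (D.io g * D.u w) * (D.z s * D.w1 * D.t1 b) * q := by group
      _ = D.u (g • w) * (D.io g * (D.z s * D.w1 * D.t1 b)) * q := by rw [D.io_u hg hw]; group
      _ = D.u (g • w) * (D.z s * D.w1 * D.t1 b * D.io g) * q := by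
        rw [← D.comm_a1 (mul_mem (mul_mem (D.z_mem_a1 s) D.w1_mem) (D.t1_mem b)) (D.io_mem g)]
      _ = _ := by group
  · exact Or.inr (Or.inl ⟨g * h, mul_mem hg hh, a, q, hq, by rw [D.io_mul hg hh]; simp only [mul_assoc]⟩)
  · refine Or.inr (Or.inr ⟨a, ha, D.io g * q, mul_mem (D.io_P hg) hq, ?_⟩)
    rw [← mul_assoc, ← mul_assoc, D.io_comm_t1]

theorem uz_InC {w : Vec n F} (hw : D.V' w) (s : F) {x : H × Sp n F} (hx : D.InC x) :
    D.InC (D.u w * D.z s * x) := by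
  rcases hx with ⟨v, hv, t, b, hb, q, hq, rfl⟩ | ⟨g, hg, a, q, hq, rfl⟩ | ⟨a, ha, q, hq, rfl⟩
  · refine Or.inl ⟨w + v, inW_add hw hv, om v w + (s + t), b, hb, q, hq, ?_⟩
    rw [← D.z_add, ← D.z_add]
    calc D.u w * D.z s * (D.u v * D.z t * D.w1 * D.t1 b * q)
        = D.u w * (D.z s * D.u v) * D.z t * D.w1 * D.t1 b * q := by group
      _ = (D.u w * D.u v) * D.z s * D.z t * D.w1 * D.t1 b * q := by rw [← D.u_comm_z hv]; group
      _ = _ := by rw [D.u_mul hw hv]; group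
  · set w' := g⁻¹ • w with hw'd
    have hw' : D.V' w' := D.G'_V (inv_mem hg) hw
    set γ := w' (.inr D.i2) with hγ
    set v := w' - γ • D.f2 with hv
    have hvV : D.V' v := inW_sub hw' (inW_smul D.f2_V γ)
    have hv0 : om D.e2 v = 0 := by
      rw [hv, om_sub_right, om_smul_right, om_ev_fv, om_ev_left, hγ]
      ring
    have e1 : D.u w * D.z s * D.io g = D.io g * (D.X γ * D.u v * D.z (-om v (γ • D.f2) + s)) := by
      rw [← D.z_add, X, ← mul_assoc (D.u (γ • D.f2) * D.u v), D.u_mul (inW_smul D.f2_V γ) hvV,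
        mul_assoc (D.u (γ • D.f2 + v)), D.z_add, add_neg_cancel, D.z_zero, mul_one,
        show γ • D.f2 + v = w' by rw [hv]; abel]
      calc D.u w * D.z s * D.io g = D.u w * (D.z s * D.io g) := mul_assoc _ _ _
        _ = (D.u w * D.io g) * D.z s := by rw [D.z_comm_io, mul_assoc]
        _ = D.io g * (D.u w' * D.z s) := by
            rw [show D.u w * D.io g = D.io g * D.u w' by rw [D.io_u hg hw', hw'd, smul_inv_smul], mul_assoc]
    set σ := -om v (γ • D.f2) + s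
    obtain ⟨τ, hτ⟩ : ∃ τ, D.u v * D.z σ * D.X a = D.X a * (D.u v * D.z τ) := by
      refine ⟨-om v (a • D.f2) + om (a • D.f2) v + σ, ?_⟩
      have h1 := D.u_mul hvV (inW_smul D.f2_V a)
      have h2 := D.u_mul (inW_smul D.f2_V a) hvV
      rw [X]
      calc D.u v * D.z σ * D.u (a • D.f2) = D.u v * D.u (a • D.f2) * D.z σ := by
            rw [mul_assoc, ← D.u_comm_z (inW_smul D.f2_V a), mul_assoc]
        _ = D.u (a • D.f2 + v) * D.z (om v (a • D.f2)) * D.z (-om v (a • D.f2) + om (a • D.f2) v + σ) := by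
            rw [h1, mul_assoc, D.z_add, mul_assoc, D.z_add, add_comm v]
            congr 2
            ring
        _ = _ := by rw [← h2]; group
    refine Or.inr (Or.inl ⟨g, hg, γ + a, D.r⁻¹ * (D.u v * D.z τ) * D.r * q, mul_mem ?_ hq, ?_⟩)
    · rw [show D.r⁻¹ * (D.u v * D.z τ) * D.r = (D.r⁻¹ * D.u v * D.r) * (D.r⁻¹ * D.z τ * D.r) by group]
      exact mul_mem (D.r_inv_u hvV hv0) (D.r_inv_z τ)
    · rw [← D.X_add]
      calc D.u w * D.z s * (D.io g * D.X a * D.r * q) = (D.u w * D.z s * D.io g) * D.X a * D.r * q := by group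
        _ = D.io g * D.X γ * (D.u v * D.z σ * D.X a) * D.r * q := by rw [e1]; group
        _ = _ := by rw [hτ]; group
  · refine Or.inr (Or.inr ⟨a, ha, D.u (a⁻¹ • w) * D.z (a⁻¹ * a⁻¹ * s) * q,
      mul_mem (mul_mem (D.u_P (inW_smul hw _)) (D.z_P _)) hq, ?_⟩)
    rw [← D.t1_u (inv_ne_zero ha) hw, ← D.t1_z (inv_ne_zero ha), ← D.t1_inv ha]
    group

theorem r_w1_r : D.r⁻¹ * D.w1 * D.r ∈ D.P := by
  have h := D.r_a1 D.w1_mem
  rw [D.r_inv, show D.r = (D.T (-1) * D.r)⁻¹ by rw [← D.r_inv, inv_inv]]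
  rw [show D.T (-1) * (D.T (-1) * D.r)⁻¹ * D.w1 * (D.T (-1) * D.r)⁻¹ =
    D.T (-1) * ((D.T (-1) * D.r)⁻¹ * D.w1 * (D.T (-1) * D.r)⁻¹) by group, ← D.r_inv, inv_inv]
  have hne : (-1 : F) ≠ 0 := neg_ne_zero.2 one_ne_zero
  have hTr : D.r = D.r⁻¹⁻¹ := (inv_inv _).symm
  have key : D.T (-1) * (D.r * D.w1 * D.r) = D.T (-1) * (D.r * D.w1 * D.r⁻¹) * (D.T (-1))⁻¹ := by
    have h2 : (D.T (-1))⁻¹ = D.r * D.r := by
      refine inv_eq_of_mul_eq_one_right ?_
      rw [← mul_assoc, ← D.r_inv, inv_mul_cancel]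
    rw [h2]; group
  rw [key]
  have hc := D.comm_a1 (D.t1_mem (-1))
    (mul_mem (mul_mem (D.a2_le (D.t2_mem (-1)⁻¹)) (D.a2_le h)) (inv_mem (D.a2_le (D.t2_mem (-1)⁻¹))))
  simp only [T]
  rw [show D.t1 (-1) * D.t2 (-1)⁻¹ * (D.r * D.w1 * D.r⁻¹) * (D.t1 (-1) * D.t2 (-1)⁻¹)⁻¹ =
    D.t1 (-1) * (D.t2 (-1)⁻¹ * (D.r * D.w1 * D.r⁻¹) * (D.t2 (-1)⁻¹)⁻¹) * (D.t1 (-1))⁻¹ by group, hc,
    mul_inv_cancel_right]
  exact mul_mem (mul_mem (D.t2_P _) (D.E'_le_P (D.a2_le h))) (inv_mem (D.t2_P _))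

theorem u_fst_apply (w : Vec n F) (hw : D.V' w) (s b : F) :
    (D.u w * D.z s * D.w1 * D.t1 b).2 • D.e1 = (b : F) • (D.f1 - w - s • D.e1) ∨ b = 0 := by
  by_cases hb : b = 0
  · exact Or.inr hb
  refine Or.inl ?_
  rw [Prod.snd_mul, Prod.snd_mul, D.snd_uz hw, D.snd_w1, D.snd_t1, mul_smul, mul_smul, tor_ev _ hb,
    smul_comm (_ : Sp n F) b, nel_ev _ one_ne_zero, inv_one, one_smul, smul_comm (_ : Sp n F) b, qel_smul (D.V'_om hw).1, om_fv_ev, (D.V'_om hw).2.2.1]
  congr 1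
  module

theorem w1_InC {x : H × Sp n F} (hx : D.InC x) : D.InC (D.w1 * x) := by
  rcases hx with ⟨w, hw, s, b, hb, q, hq, rfl⟩ | ⟨g, hg, a, q, hq, rfl⟩ | ⟨a, ha, q, hq, rfl⟩
  · obtain ⟨g, hg, c, rfl⟩ : ∃ g ∈ D.G', ∃ c : F, w = g • (c • D.e2) := by
      rcases D.u_cases hw with rfl | ⟨g, hg, rfl⟩
      · exact ⟨1, one_mem _, 0, by rw [zero_smul, smul_zero]⟩
      · exact ⟨g, hg, 1, by rw [one_smul]⟩
    set y := D.w1 * D.A c * D.z s * D.w1 * D.t1 b with hy
    have heq : D.w1 * (D.u (g • (c • D.e2)) * D.z s * D.w1 * D.t1 b * q) =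
        D.io g * y * ((D.io g)⁻¹ * q) := by
      rw [← D.u_conj hg (inW_smul D.e2_V c), D.u_smul_e2, hy]
      calc D.w1 * (D.io g * D.A c * (D.io g)⁻¹ * D.z s * D.w1 * D.t1 b * q)
          = (D.w1 * D.io g) * D.A c * ((D.io g)⁻¹ * (D.z s * D.w1 * D.t1 b)) * q := by group
        _ = (D.io g * D.w1) * D.A c * ((D.z s * D.w1 * D.t1 b) * (D.io g)⁻¹) * q := by
          rw [D.io_comm_w1, ← D.comm_a1 (mul_mem (mul_mem (D.z_mem_a1 s) D.w1_mem) (D.t1_mem b))
            (inv_mem (D.io_mem g))]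
        _ = _ := by group
    rw [heq]
    refine D.InC_mul ?_ (mul_mem (inv_mem (D.io_P hg)) hq)
    refine D.io_InC hg ?_
    have hyv : y.2 • D.e1 = b • (-D.e1 - c • D.e2 - s • D.f1) := by
      rw [hy, show D.w1 * D.A c * D.z s * D.w1 * D.t1 b =
        D.w1 * (D.u (c • D.e2) * D.z s * D.w1 * D.t1 b) by rw [D.u_smul_e2]; group, Prod.snd_mul, mul_smul,
        (D.u_fst_apply _ (inW_smul D.e2_V c) s b).resolve_right hb, D.snd_w1]
      have hfix : nel D.i1 (1 : F) • D.e2 = D.e2 := (plane_fix (by simp [D.ne12]) (by simp) _).2.2.1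
      simp only [smul_sub, smul_comm (_ : Sp n F) (_ : F), nel_fv _ one_ne_zero, nel_ev _ one_ne_zero, inv_one,
        one_smul, hfix, neg_one_smul]
    by_cases hs : s = 0
    · subst hs
      by_cases hc : c = 0
      · subst hc
        refine Or.inr (Or.inr ⟨-b, neg_ne_zero.2 hb, 1, one_mem _, ?_⟩)
        rw [hy, ← D.u_smul_e2, zero_smul, D.u_zero, D.z_zero, mul_one, mul_one, D.w1_sq,
          D.t1_mul (neg_ne_zero.2 one_ne_zero) hb, neg_one_mul, mul_one]
      · have hb' : -b ≠ 0 := neg_ne_zero.2 hb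
        refine Or.inr (Or.inl ⟨tor D.i2 (c * -b), Sset_le_Gk (k := D.k + 1) (le_of_eq rfl) (tor_mem _ _), -b,
          D.t2 c⁻¹ * D.X (c⁻¹ * (-b)⁻¹), mul_mem (D.t2_P _) (D.X_P _), ?_⟩)
        have h0 : D.Y c = D.X c⁻¹ * D.T c⁻¹ * D.r * D.X c⁻¹ := by
          have := D.rho (c := -c⁻¹) (neg_ne_zero.2 (inv_ne_zero hc))
          simp only [neg_neg, inv_neg, inv_inv] at this
          rw [mul_assoc (D.X c⁻¹), ← this, show D.X (-c⁻¹) = (D.X c⁻¹)⁻¹ from (D.X_inv _).symm]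
          group
        have h1 : y = D.Y c * D.t1 (-b) := by
          rw [hy, D.z_zero, mul_one, Y, ← neg_one_mul b, ← D.t1_mul (neg_ne_zero.2 one_ne_zero) hb, ← D.w1_sq]
          group
        have h2 : D.X c⁻¹ * D.t1 (-b) = D.t1 (-b) * D.X (c⁻¹ * (-b)⁻¹) := by
          rw [mul_comm c⁻¹ (-b)⁻¹, ← D.t1_X (inv_ne_zero hb') c⁻¹, ← D.t1_inv hb']
          group
        have h3 : ∀ e : F, e ≠ 0 → D.r * D.t1 e = D.t2 e * D.r := fun e he => by
          rw [← D.r_t1 he, inv_mul_cancel_right]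
        have h4 : D.t1 c⁻¹ * D.r = D.r * D.t2 c⁻¹ := by
          rw [← D.r_t2 (inv_ne_zero hc), inv_mul_cancel_right]
        have h5 : D.T c⁻¹ * D.r = D.t2 c * D.r * D.t2 c⁻¹ := by
          rw [T, inv_inv, D.a1_a2 (D.t1_mem _) (D.t2_mem _), mul_assoc, h4, ← mul_assoc]
        have h6 : D.X c⁻¹ * D.t2 (c * -b) = D.t2 (c * -b) * D.X (-b) := by
          have hcb : c * -b ≠ 0 := mul_ne_zero hc hb'
          have := D.t2_X hcb (-b)
          rw [show -b * (c * -b)⁻¹ = c⁻¹ by field_simp] at this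
          rw [← this, inv_mul_cancel_right]
        rw [h1, h0, ← D.t2_eq_io]
        calc D.X c⁻¹ * D.T c⁻¹ * D.r * D.X c⁻¹ * D.t1 (-b)
            = D.X c⁻¹ * (D.T c⁻¹ * D.r) * (D.X c⁻¹ * D.t1 (-b)) := by group
          _ = D.X c⁻¹ * D.t2 c * D.r * (D.t2 c⁻¹ * D.t1 (-b)) * D.X (c⁻¹ * (-b)⁻¹) := by
              rw [h5, h2]; group
          _ = D.X c⁻¹ * D.t2 c * (D.r * D.t1 (-b)) * D.t2 c⁻¹ * D.X (c⁻¹ * (-b)⁻¹) := by
              rw [← D.a1_a2 (D.t1_mem _) (D.t2_mem _)]; group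
          _ = D.X c⁻¹ * (D.t2 c * D.t2 (-b)) * D.r * D.t2 c⁻¹ * D.X (c⁻¹ * (-b)⁻¹) := by
              rw [h3 _ hb']; group
          _ = _ := by rw [D.t2_mul hc hb', h6]; group
    · set w' := (-c / s) • D.e2
      have hw' : D.V' w' := inW_smul D.e2_V _
      set y' := D.u w' * D.z (-s⁻¹) * D.w1 * D.t1 (-(b * s)) with hy'
      have hbs : -(b * s) ≠ 0 := neg_ne_zero.2 (mul_ne_zero hb hs)
      refine Or.inl ⟨w', hw', -s⁻¹, -(b * s), hbs, y'⁻¹ * y, ?_, by rw [← hy', mul_inv_cancel_left]⟩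
      have hyE : y ∈ D.E1 := mul_mem (mul_mem (mul_mem (mul_mem (Subgroup.mem_sup_right D.w1_mem)
        (Subgroup.mem_sup_left (D.A_mem c))) (Subgroup.mem_sup_left (D.z_mem s)))
        (Subgroup.mem_sup_right D.w1_mem)) (Subgroup.mem_sup_right (D.t1_mem b))
      have hy'E : y' ∈ D.E1 := by
        rw [hy', D.u_smul_e2]
        exact mul_mem (mul_mem (mul_mem (Subgroup.mem_sup_left (D.A_mem _)) (Subgroup.mem_sup_left (D.z_mem _)))
          (Subgroup.mem_sup_right D.w1_mem)) (Subgroup.mem_sup_right (D.t1_mem _))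
      refine D.E1_fix (mul_mem (inv_mem hy'E) hyE) ?_
      rw [Prod.snd_mul, Prod.snd_inv, mul_smul, inv_smul_eq_iff, hyv, hy',
        (D.u_fst_apply _ hw' _ _).resolve_right hbs]
      match_scalars <;> field_simp <;> ring
  · have hw : D.w1 * D.io g = D.io g * D.w1 := (D.io_comm_w1 g).symm
    rw [show D.w1 * (D.io g * D.X a * D.r * q) = D.io g * (D.w1 * D.X a * D.r) * q by
      rw [← mul_assoc, ← mul_assoc, ← mul_assoc, hw]; group]
    refine D.InC_mul (D.io_InC hg ?_) hq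
    by_cases ha : a = 0
    · subst ha
      refine Or.inr (Or.inl ⟨1, one_mem _, 0, D.r⁻¹ * D.w1 * D.r, D.r_w1_r, ?_⟩)
      rw [D.X_zero, D.io_one]; group
    · have h1 : 1 + (a - 1) * (1 : F) ≠ 0 := by rw [mul_one, add_sub_cancel]; exact ha
      have h2 : D.X a * D.r = D.Y (1 / a) * D.T a * D.X ((a - 1) / a) * D.X (-1) := by
        have := D.gauss h1
        rw [mul_one, add_sub_cancel] at this
        rw [← this, show a - 1 = a + -1 by ring, ← D.X_add, r]
        group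
      refine Or.inl ⟨-(1 / a) • D.e2, inW_smul D.e2_V _, 0, a, ha,
        D.t2 a⁻¹ * D.X ((a - 1) / a) * D.X (-1), mul_mem (mul_mem (D.t2_P _) (D.X_P _)) (D.X_P _), ?_⟩
      have h3 : D.w1 * D.Y (1 / a) = D.A (-(1 / a)) * D.w1 := by
        have := D.t1_A (neg_ne_zero.2 one_ne_zero) (1 / a)
        rw [neg_one_mul, ← D.w1_sq] at this
        rw [← this, Y]
        group
      rw [mul_assoc D.w1, h2, D.u_smul_e2, D.z_zero, mul_one]
      simp only [← mul_assoc]
      rw [h3]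
      simp only [T, ← mul_assoc]
  · exact Or.inl ⟨0, Vk_zero _, 0, a, ha, q, hq, by rw [D.u_zero, D.z_zero, one_mul, one_mul, mul_assoc]⟩

/-- elements preserving the union of the cells in both directions -/
def Good : Subgroup (H × Sp n F) where
  carrier := {g | (∀ x, D.InC x → D.InC (g * x)) ∧ ∀ x, D.InC x → D.InC (g⁻¹ * x)}
  one_mem' := ⟨fun x hx => by rwa [one_mul], fun x hx => by rwa [inv_one, one_mul]⟩
  mul_mem' {a b} ha hb := ⟨fun x hx => by rw [mul_assoc]; exact ha.1 _ (hb.1 _ hx),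
    fun x hx => by rw [mul_inv_rev, mul_assoc]; exact hb.2 _ (ha.2 _ hx)⟩
  inv_mem' {a} ha := ⟨ha.2, fun x hx => by rw [inv_inv]; exact ha.1 _ hx⟩

theorem io_Good {g : Sp n F} (hg : g ∈ D.G') : D.io g ∈ D.Good :=
  ⟨fun _ hx => D.io_InC hg hx, fun _ hx => by rw [← D.io_inv hg]; exact D.io_InC (inv_mem hg) hx⟩

theorem uz_Good {w : Vec n F} (hw : D.V' w) (s : F) : D.u w * D.z s ∈ D.Good := by
  refine ⟨fun _ hx => D.uz_InC hw s hx, fun x hx => ?_⟩
  rw [mul_inv_rev, D.z_inv, D.u_inv hw, ← D.u_comm_z (Vk_neg hw)]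
  exact D.uz_InC (Vk_neg hw) _ hx

theorem w1_Good : D.w1 ∈ D.Good := by
  refine ⟨fun _ hx => D.w1_InC hx, fun x hx => ?_⟩
  have h1 : D.w1⁻¹ = D.w1 * D.w1 * D.w1 := by
    refine inv_eq_of_mul_eq_one_right ?_
    rw [show D.w1 * (D.w1 * D.w1 * D.w1) = (D.w1 * D.w1) * (D.w1 * D.w1) by group, D.w1_sq,
      D.t1_mul (neg_ne_zero.2 one_ne_zero) (neg_ne_zero.2 one_ne_zero), neg_one_mul, neg_neg, D.t1_one]
  rw [h1, mul_assoc, mul_assoc]
  exact D.w1_InC (D.w1_InC (D.w1_InC hx))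

theorem z_Good (s : F) : D.z s ∈ D.Good := by
  have := D.uz_Good (Vk_zero _) s
  rwa [D.u_zero, one_mul] at this

theorem Ek_InC {x : H × Sp n F} (hx : x ∈ D.C.Ek D.k) : D.InC x := by
  have hle : D.C.Ek D.k ≤ D.Good := by
    refine D.C.Ek_le fun b hb => ?_
    by_cases hb' : D.k + 1 ≤ lvl b
    · intro y hy
      rw [D.eq_io (D.C.gr_le_Ek hb' hy) rfl]
      exact D.io_Good (D.C.Ek_snd (D.C.gr_le_Ek hb' hy))
    have hlv : lvl b = D.k := by omega
    rcases b with j | ⟨i, hi⟩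
    · obtain rfl : j = D.i1 := Fin.ext hlv
      refine D.C.gr_inl_le (fun c => ?_) (fun c => ?_)
      · show D.C.lift D.a1 (tvv D.e1 c) ∈ _
        rw [← D.z_eq_a1]
        exact D.z_Good c
      · have e : D.C.lift D.a1 (tvv D.f1 c) = D.w1 * D.z c * D.w1⁻¹ := by
          refine (D.C.eq_lift (mul_mem (mul_mem D.w1_mem (D.z_mem_a1 c)) (inv_mem D.w1_mem)) ?_).symm
          rw [Prod.snd_mul, Prod.snd_mul, Prod.snd_inv, D.snd_w1, D.snd_z, tvv_conj, nel_ev _ one_ne_zero,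
            inv_one, one_smul]
        show D.C.lift D.a1 (tvv D.f1 c) ∈ _
        rw [e]
        exact mul_mem (mul_mem D.w1_Good (D.z_Good c)) (inv_mem D.w1_Good)
    · obtain rfl : i = D.i1 := Fin.ext hlv
      intro y hy
      obtain ⟨g, hg, w, hw, s, rfl⟩ := D.im_le_P hy
      rw [mul_assoc]
      exact mul_mem (D.io_Good hg) (D.uz_Good hw s)
  have := (hle hx).1 1 D.InC_one
  rwa [mul_one] at this

/-- the inductive step -/
theorem level : D.C.Level D.k := by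
  constructor
  · intro x hx h
    rcases D.Ek_InC hx with ⟨w, hw, s, b, hb, p, hp, rfl⟩ | ⟨g, hg, a, p, hp, rfl⟩ | ⟨a, ha, p, hp, rfl⟩
    · exfalso
      have e := congrArg (fun y : Sp n F => (y • D.e1) (.inr D.i1)) h
      simp only [Prod.snd_mul (D.u w * D.z s * D.w1 * D.t1 b), mul_smul, D.P_fix hp,
        (D.u_fst_apply w hw s b).resolve_right hb, one_smul] at e
      simp [(hw D.i1 (mem_lo.2 (Nat.lt_succ_self _))).2, hb] at e
    · exfalso
      have e : (D.io g * D.X a * D.r * p).2 • D.e1 = D.e1 := by rw [h, one_smul]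
      rw [Prod.snd_mul, Prod.snd_mul, Prod.snd_mul, mul_smul, mul_smul, mul_smul, D.P_fix hp, D.r_e1, D.X_e2,
        D.snd_io hg, smul_add, smul_comm g a, (D.G'_fix hg).1] at e
      have hV := D.G'_V hg D.e2_V
      have ha : a = 1 := by
        have := congrFun e (.inl D.i1)
        simpa [(hV D.i1 (mem_lo.2 (Nat.lt_succ_self _))).1] using this
      subst ha
      rw [one_smul, add_eq_right, smul_eq_zero_iff_eq] at e
      exact D.e2_ne e
    · have e : (D.t1 a * p).2 • D.e1 = D.e1 := by rw [h, one_smul]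
      rw [Prod.snd_mul, mul_smul, D.P_fix hp, D.snd_t1, tor_ev _ ha] at e
      have ha1 : a = 1 := by simpa using congrFun e (.inl D.i1)
      subst ha1
      rw [D.t1_one, one_mul] at h ⊢
      exact D.P_eq_one hp h
  · intro g hg
    set v := g • D.e1 with hv
    have hvV : Vk D.k v := pairsFixer_inW hg (ev_Vk le_rfl)
    set a := v (.inl D.i1) with ha
    set b := v (.inr D.i1) with hb
    set v' := v - a • D.e1 - b • D.f1 with hv'
    have hv'V : D.V' v' := by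
      intro j hj
      have hj' := mem_lo.1 hj
      by_cases hji : j = D.i1
      · subst hji
        simp [hv', ha, hb]
      · have hlt : (j : ℕ) < D.k := by
          by_contra hlt
          exact hji (Fin.ext (show (j : ℕ) = D.k by omega))
        obtain ⟨x1, x2⟩ := hvV j (mem_lo.2 hlt)
        simp [hv', x1, x2, hji]
    clear_value v' a b v
    obtain ⟨x, hx, hxe⟩ : ∃ x ∈ D.C.Ek D.k, x.2 • D.e1 = v := by
      by_cases hb0 : b = 0
      · by_cases hv0 : v' = 0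
        · have hve : v = a • D.e1 := by
            rw [hv', hb0, zero_smul, sub_zero, sub_eq_zero] at hv0
            exact hv0
          have ha0 : a ≠ 0 := fun e => by
            rw [e, zero_smul, hv, smul_eq_zero_iff_eq] at hve
            simp at hve
          exact ⟨D.t1 a, D.t1_mem_Ek a, by rw [D.snd_t1, tor_ev _ ha0, hve]⟩
        · obtain ⟨h, hh, hhe⟩ := exists_Gk_smul D.e2_V hv'V D.e2_ne hv0
          refine ⟨D.io h * D.X a * D.r, mul_mem (mul_mem (D.io_mem_Ek h) (D.u_mem_Ek _)) D.r_mem_Ek, ?_⟩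
          rw [Prod.snd_mul, Prod.snd_mul, mul_smul, mul_smul, D.r_e1, D.X_e2, D.snd_io hh, smul_add,
            smul_comm, (D.G'_fix hh).1, hhe, hv', hb0]
          module
      · refine ⟨D.u (-(b⁻¹ • v')) * D.z (-(a / b)) * D.w1 * D.t1 b,
          mul_mem (mul_mem (mul_mem (D.u_mem_Ek _) (D.im_mem_Ek (D.z_mem _))) D.w1_mem_Ek) (D.t1_mem_Ek b), ?_⟩
        rw [(D.u_fst_apply _ (Vk_neg (inW_smul hv'V _)) _ b).resolve_right hb0, hv']
        match_scalars <;> field_simp <;> ring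
    set g' := x.2⁻¹ * g with hg'
    have hfix : g' • D.e1 = D.e1 := by rw [hg', mul_smul, inv_smul_eq_iff, hxe, hv]
    have hg'G : g' ∈ Gk n F D.k := mul_mem (inv_mem (D.C.Ek_snd hx)) hg
    have hrf : (g' • D.f1) (.inr D.i1) = 1 := by
      have := om_smul_smul g' D.e1 D.f1
      rwa [hfix, om_ev_fv, om_ev_left] at this
    set c := (g' • D.f1) (.inl D.i1) with hc
    set w := -(g' • D.f1 - D.f1 - c • D.e1) with hw
    have hwV : D.V' w := by
      intro j hj
      have hj' := mem_lo.1 hj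
      by_cases hji : j = D.i1
      · subst hji
        simp [hw, hrf, hc]
      · have hlt : (j : ℕ) < D.k := by
          by_contra hlt
          exact hji (Fin.ext (show (j : ℕ) = D.k by omega))
        obtain ⟨x1, x2⟩ := pairsFixer_inW hg'G (fv_Vk (k := D.k) (j := D.i1) le_rfl) j (mem_lo.2 hlt)
        simp [hw, x1, x2, hji]
    set q := qel D.e1 w (-c) with hq
    have hqf : q • D.f1 = g' • D.f1 := by
      rw [hq, qel_smul (D.V'_om hwV).1, om_fv_ev, (D.V'_om hwV).2.2.1, hw]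
      generalize g' • D.f1 = y
      module
    have hqe : q • D.e1 = D.e1 := by
      rw [hq]
      exact qel_fix (D.V'_om hwV).1 (-c) (om_self _) (D.V'_om hwV).1
    have hwV0 : Vk D.k w := fun j hj => hwV j (mem_lo.2 ((mem_lo.1 hj).trans (Nat.lt_succ_self _)))
    have he1V : Vk D.k D.e1 := ev_Vk (j := D.i1) (k := D.k) (le_of_eq rfl)
    have hqG : q ∈ Gk n F D.k := by
      rw [hq]
      exact qel_mem_Gk he1V hwV0 (-c)
    have hh : q⁻¹ * g' ∈ D.G' := by
      intro j hj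
      by_cases hji : j = D.i1
      · subst hji
        exact ⟨by rw [mul_smul, inv_smul_eq_iff, hqe, hfix], by rw [mul_smul, inv_smul_eq_iff, hqf]⟩
      · have hlt : (j : ℕ) < D.k := by
          by_contra hlt
          exact hji (Fin.ext (show (j : ℕ) = D.k by have := mem_lo.1 hj; omega))
        exact (mul_mem (inv_mem hqG) hg'G) j (mem_lo.2 hlt)
    refine ⟨x * (D.u w * D.z (-c) * D.io (q⁻¹ * g')),
      mul_mem hx (mul_mem (mul_mem (D.u_mem_Ek _) (D.im_mem_Ek (D.z_mem _))) (D.io_mem_Ek _)), ?_⟩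
    rw [Prod.snd_mul, Prod.snd_mul, D.snd_uz hwV, D.snd_io hh, ← hq, mul_inv_cancel_left, hg',
      mul_inv_cancel_left]

end St

namespace Coh

variable (C : Coh n F H)

theorem level_top : C.Level n := by
  refine ⟨fun x hx _ => ?_, fun g hg => ⟨1, one_mem _, ?_⟩⟩
  · have : C.Ek n ≤ ⊥ := C.Ek_le fun b hb => absurd hb (by
      rcases b with j | i
      · simp only [lvl]; omega
      · simp only [lvl]; omega)
    exact Subgroup.mem_bot.1 (this hx)
  · have : g ∈ pairsFixer (Finset.univ : Finset (Fin n)) F := fun j _ => hg j (mem_lo.2 j.2)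
    rw [pairsFixer_univ, Subgroup.mem_bot] at this
    rw [this, Prod.snd_one]

theorem level_pred {k : ℕ} (hk : k + 1 = n) : C.Level k := by
  have hle : C.Ek k ≤ C.gr (.inl ⟨k, by omega⟩) := C.Ek_le fun b hb => by
    rcases b with j | ⟨i, hi⟩
    · exact le_of_eq (congrArg (fun j => C.gr (.inl j)) (Fin.ext (by
        show (j : ℕ) = k
        have := j.2; simp only [lvl] at hb; omega)))
    · simp only [lvl] at hb; omega
  refine ⟨fun x hx h => C.eq_of_snd_one (hle hx) (one_mem _) (by rw [h, Prod.snd_one]), fun g hg => ?_⟩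
  have hgS : g ∈ fam F (.inl ⟨k, by omega⟩) := mem_Sset.2 fun j hj => hg j (mem_lo.2 (by
    have := j.2
    simp only [ne_eq, Fin.ext_iff] at hj
    omega))
  exact ⟨_, C.gr_le_Ek (a := .inl ⟨k, by omega⟩) le_rfl (C.lift_mem _ g), C.snd_lift hgS⟩

theorem level_all (hF : ∃ a : F, a ≠ 0 ∧ a ≠ 1) : ∀ d k : ℕ, k + d = n → C.Level k := by
  intro d
  induction d using Nat.strong_induction_on with
  | _ d ih =>
    intro k hk
    rcases Nat.lt_trichotomy d 1 with h | h | h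
    · obtain rfl : k = n := by omega
      exact C.level_top
    · exact C.level_pred (by omega)
    · exact St.level ⟨C, k, by omega, fun l h1 h2 => ih (n - l) (by omega) l (by omega), hF⟩

/-- the completion theorem -/
theorem existsUnique (hF : ∃ a : F, a ≠ 0 ∧ a ≠ 1) :
    ∃! Φ : Sp n F →* H, ∀ (a : Idx n) (g : Sp n F) (hg : g ∈ fam F a), Φ g = C.map a ⟨g, hg⟩ := by
  obtain ⟨hinj, hsurj⟩ := C.level_all hF n 0 (Nat.zero_add n)
  let π : ↥(C.Ek 0) →* Sp n F := (MonoidHom.snd H (Sp n F)).comp (C.Ek 0).subtype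
  have hi : Function.Injective π := (injective_iff_map_eq_one π).2 fun x hx => Subtype.ext (hinj x x.2 hx)
  have hs : Function.Surjective π := fun g => by
    obtain ⟨x, hx, e⟩ := hsurj g (fun j hj => absurd (mem_lo.1 hj) (Nat.not_lt_zero _))
    exact ⟨⟨x, hx⟩, e⟩
  let e := MulEquiv.ofBijective π ⟨hi, hs⟩
  let Φ : Sp n F →* H := ((MonoidHom.fst H (Sp n F)).comp (C.Ek 0).subtype).comp e.symm.toMonoidHom
  refine ⟨Φ, fun a g hg => ?_, fun Ψ hΨ => ?_⟩
  · have he : e.symm g = ⟨C.lift a g, C.gr_le_Ek (Nat.zero_le _) (C.lift_mem a g)⟩ :=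
      e.symm_apply_eq.2 (C.snd_lift hg).symm
    show ((e.symm g : ↥(C.Ek 0)) : H × Sp n F).1 = _
    rw [he, C.fst_eq (C.lift_mem a g)]
    congr 1
    exact Subtype.ext (C.snd_lift hg)
  · refine MonoidHom.ext fun g => ?_
    have key : C.Ek 0 ≤ (MonoidHom.eqLocus (Ψ.comp (MonoidHom.snd H (Sp n F))) (MonoidHom.fst H (Sp n F))) :=
      C.Ek_le fun a _ x hx => by
        show Ψ x.2 = x.1
        rw [C.fst_eq hx]
        exact hΨ a x.2 (C.snd_mem hx)
    have h1 : π (e.symm g) = g := e.apply_symm_apply g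
    conv_lhs => rw [← h1]
    exact key (e.symm g).2

end Coh

end CfsgLib.SympAmalgam
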