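import Cfsg.Agent.Lib.SympAmalgam.Step

/-!
The short root elements of an inductive step and their rank one relations.
-/

set_option autoImplicit false

namespace CfsgLib.SympAmalgam

open CfsgLib.Linear.Symp

variable {n : ℕ} {F : Type*} [Field F] {H : Type*} [Group H]

theorem tor_mul (j : Fin n) {a b : F} (ha : a ≠ 0) (hb : b ≠ 0) : tor j a * tor j b = tor j (a * b) := by
  refine Sset_ext (mul_mem (tor_mem _ _) (tor_mem _ _)) (tor_mem _ _) ?_ ?_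
  · rw [mul_smul, tor_ev j hb, smul_comm, tor_ev j ha, tor_ev j (mul_ne_zero ha hb), smul_smul, mul_comm b]
  · rw [mul_smul, tor_fv j hb, smul_comm, tor_fv j ha, tor_fv j (mul_ne_zero ha hb), smul_smul, mul_inv]
    rw [mul_comm b⁻¹]

theorem tor_one (j : Fin n) : tor j (1 : F) = 1 :=
  Sset_ext (tor_mem _ _) (one_mem _) (by rw [tor_ev j one_ne_zero, one_smul, one_smul])
    (by rw [tor_fv j one_ne_zero, inv_one, one_smul, one_smul])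

theorem nel_sq (j : Fin n) : nel j (1 : F) * nel j 1 = tor j (-1) := by
  refine Sset_ext (mul_mem (nel_mem _ _) (nel_mem _ _)) (tor_mem _ _) ?_ ?_
  · rw [mul_smul, nel_ev j one_ne_zero, smul_comm, nel_fv j one_ne_zero,
      tor_ev j (neg_ne_zero.2 one_ne_zero)]
    simp
  · rw [mul_smul, nel_fv j one_ne_zero, smul_comm, nel_ev j one_ne_zero,
      tor_fv j (neg_ne_zero.2 one_ne_zero)]
    simp

theorem nel_tor (j : Fin n) {a : F} (ha : a ≠ 0) : tor j a * nel j (1 : F) = nel j 1 * tor j a⁻¹ := by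
  refine Sset_ext (mul_mem (tor_mem _ _) (nel_mem _ _)) (mul_mem (nel_mem _ _) (tor_mem _ _)) ?_ ?_
  · rw [mul_smul, mul_smul, nel_ev j one_ne_zero, tor_ev j (inv_ne_zero ha), smul_comm, tor_fv j ha,
      smul_comm (nel j (1 : F)), nel_ev j one_ne_zero]
    simp
  · rw [mul_smul, mul_smul, nel_fv j one_ne_zero, tor_fv j (inv_ne_zero ha), smul_comm, tor_ev j ha,
      smul_comm (nel j (1 : F)), nel_fv j one_ne_zero]
    simp

namespace St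

variable (D : St n F H)

/-- the torus of the first plane -/
noncomputable def t1 (a : F) : H × Sp n F := D.C.lift D.a1 (tor D.i1 a)
/-- the torus of the second plane -/
noncomputable def t2 (a : F) : H × Sp n F := D.C.lift D.a2 (tor D.i2 a)
/-- the Weyl element of the first plane -/
noncomputable def w1 : H × Sp n F := D.C.lift D.a1 (nel D.i1 1)
/-- the Weyl element of the second plane -/
noncomputable def w2 : H × Sp n F := D.C.lift D.a2 (nel D.i2 1)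

theorem t1_mem (a : F) : D.t1 a ∈ D.C.gr D.a1 := D.C.lift_mem _ _
theorem t2_mem (a : F) : D.t2 a ∈ D.C.gr D.a2 := D.C.lift_mem _ _
theorem w1_mem : D.w1 ∈ D.C.gr D.a1 := D.C.lift_mem _ _
theorem w2_mem : D.w2 ∈ D.C.gr D.a2 := D.C.lift_mem _ _

theorem snd_t1 (a : F) : (D.t1 a).2 = tor D.i1 a := D.C.snd_lift (a := D.a1) (tor_mem _ _)
theorem snd_t2 (a : F) : (D.t2 a).2 = tor D.i2 a := D.C.snd_lift (a := D.a2) (tor_mem _ _)
theorem snd_w1 : D.w1.2 = nel D.i1 1 := D.C.snd_lift (a := D.a1) (nel_mem _ _)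
theorem snd_w2 : D.w2.2 = nel D.i2 1 := D.C.snd_lift (a := D.a2) (nel_mem _ _)

theorem t2_eq_io (a : F) : D.t2 a = D.io (tor D.i2 a) := D.lift_a2 (tor_mem _ _)
theorem w2_eq_io : D.w2 = D.io (nel D.i2 1) := D.lift_a2 (nel_mem _ _)

theorem t2_P (a : F) : D.t2 a ∈ D.P := D.E'_le_P (D.a2_le (D.t2_mem a))

theorem t1_mul {a b : F} (ha : a ≠ 0) (hb : b ≠ 0) : D.t1 a * D.t1 b = D.t1 (a * b) := by
  rw [t1, t1, t1, ← D.C.lift_mul (a := D.a1) (tor_mem _ _) (tor_mem _ _), tor_mul _ ha hb]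

theorem t1_one : D.t1 1 = 1 := by rw [t1, tor_one, D.C.lift_one]

theorem t1_inv {a : F} (ha : a ≠ 0) : (D.t1 a)⁻¹ = D.t1 a⁻¹ :=
  inv_eq_of_mul_eq_one_right (by rw [D.t1_mul ha (inv_ne_zero ha), mul_inv_cancel₀ ha, D.t1_one])

theorem t2_mul {a b : F} (ha : a ≠ 0) (hb : b ≠ 0) : D.t2 a * D.t2 b = D.t2 (a * b) := by
  rw [t2, t2, t2, ← D.C.lift_mul (a := D.a2) (tor_mem _ _) (tor_mem _ _), tor_mul _ ha hb]

theorem t2_one : D.t2 1 = 1 := by rw [t2, tor_one, D.C.lift_one]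

theorem t2_inv {a : F} (ha : a ≠ 0) : (D.t2 a)⁻¹ = D.t2 a⁻¹ :=
  inv_eq_of_mul_eq_one_right (by rw [D.t2_mul ha (inv_ne_zero ha), mul_inv_cancel₀ ha, D.t2_one])

theorem a1_a2 {x y : H × Sp n F} (hx : x ∈ D.C.gr D.a1) (hy : y ∈ D.C.gr D.a2) : x * y = y * x :=
  D.comm_a1 hx (D.a2_le hy)

theorem w1_sq : D.w1 * D.w1 = D.t1 (-1) := by
  rw [w1, t1, ← D.C.lift_mul (a := D.a1) (nel_mem _ _) (nel_mem _ _), nel_sq]

theorem t1_w1 {a : F} (ha : a ≠ 0) : D.t1 a * D.w1 = D.w1 * D.t1 a⁻¹ := by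
  rw [w1, t1, t1, ← D.C.lift_mul (a := D.a1) (tor_mem _ _) (nel_mem _ _),
    ← D.C.lift_mul (a := D.a1) (nel_mem _ _) (tor_mem _ _), nel_tor _ ha]

theorem t1_fix (a : F) : tor D.i1 a • D.e2 = D.e2 :=
  (plane_fix (by simp [D.ne12]) (by simp) a).2.2.2

theorem t1_A {a : F} (ha : a ≠ 0) (d : F) : D.t1 a * D.A d * (D.t1 a)⁻¹ = D.A (a * d) := by
  refine D.eq1 (mul_mem (mul_mem (Subgroup.mem_sup_right (D.t1_mem a)) (Subgroup.mem_sup_left (D.A_mem d)))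
    (inv_mem (Subgroup.mem_sup_right (D.t1_mem a)))) (Subgroup.mem_sup_left (D.A_mem _)) ?_
  rw [Prod.snd_mul, Prod.snd_mul, Prod.snd_inv, D.snd_t1, D.snd_A, D.snd_A, qel_conj, tor_ev _ ha, smul_comm,
    D.t1_fix, qel_smul_fst (by simp [om_smul_right, om_ev_ev]), smul_smul, mul_zero]

theorem t1_u {a : F} (ha : a ≠ 0) {w : Vec n F} (hw : D.V' w) :
    D.t1 a * D.u w * (D.t1 a)⁻¹ = D.u (a • w) := by
  rcases D.u_cases hw with rfl | ⟨g, hg, rfl⟩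
  · rw [smul_zero, D.u_zero, mul_one, mul_inv_cancel]
  · have hc := D.comm_a1 (D.t1_mem a) (D.io_mem g)
    have key : D.io g * D.u (a • D.e2) * (D.io g)⁻¹ = D.u (a • g • D.e2) := by
      rw [D.u_conj hg (inW_smul D.e2_V a), smul_comm]
    rw [← key, D.u_smul_e2, show D.A a = D.t1 a * D.A 1 * (D.t1 a)⁻¹ by rw [D.t1_A ha, mul_one],
      D.u_eq hg rfl]
    calc D.t1 a * (D.io g * D.A 1 * (D.io g)⁻¹) * (D.t1 a)⁻¹
        = (D.t1 a * D.io g) * D.A 1 * (D.t1 a * D.io g)⁻¹ := by group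
      _ = (D.io g * D.t1 a) * D.A 1 * (D.io g * D.t1 a)⁻¹ := by rw [hc]
      _ = _ := by group

theorem t1_z {a : F} (ha : a ≠ 0) (s : F) : D.t1 a * D.z s * (D.t1 a)⁻¹ = D.z (a * a * s) := by
  refine D.C.eq_of_snd_one (a := D.a1) (mul_mem (mul_mem (D.t1_mem a) (D.z_mem_a1 s)) (inv_mem (D.t1_mem a)))
    (D.z_mem_a1 _) ?_
  rw [Prod.snd_mul, Prod.snd_mul, Prod.snd_inv, D.snd_t1, D.snd_z, D.snd_z, tvv_conj, tor_ev _ ha,
    tvv_smul_vec]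

theorem A_add (a b : F) : D.A a * D.A b = D.A (a + b) := by
  rw [← D.u_smul_e2, ← D.u_smul_e2, D.u_mul (inW_smul D.e2_V a) (inW_smul D.e2_V b), ← add_smul,
    D.u_smul_e2, om_smul_left, om_smul_right, om_self, mul_zero, mul_zero, D.z_zero, mul_one]

/-- the short root element `e₂ ↦ e₂ + c e₁` -/
noncomputable def X (c : F) : H × Sp n F := D.u (c • D.f2)
/-- the short root element `e₁ ↦ e₁ + d e₂` -/
noncomputable def Y (d : F) : H × Sp n F := D.w1 * D.A d * D.w1⁻¹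

theorem X_mem (c : F) : D.X c ∈ D.E2 := by
  have := D.u_plane 0 c
  rwa [zero_smul, zero_add] at this

theorem Y_mem (d : F) : D.Y d ∈ D.E1 :=
  mul_mem (mul_mem (Subgroup.mem_sup_right D.w1_mem) (Subgroup.mem_sup_left (D.A_mem d)))
    (inv_mem (Subgroup.mem_sup_right D.w1_mem))

theorem X_P (c : F) : D.X c ∈ D.P := D.E2_le_P (D.X_mem c)

theorem snd_X (c : F) : (D.X c).2 = qel D.e1 (c • D.f2) 0 := D.snd_u (inW_smul D.f2_V c)

theorem om_e1_f2 : om D.e1 D.f2 = 0 := (D.V'_om D.f2_V).1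
theorem om_f1_e2 : om D.f1 D.e2 = 0 := (D.V'_om D.e2_V).2.2.1
theorem om_e2_f1 : om D.e2 D.f1 = 0 := (D.V'_om D.e2_V).2.2.2

theorem snd_Y (d : F) : (D.Y d).2 = qel D.e2 (d • D.f1) 0 := by
  rw [Y, Prod.snd_mul, Prod.snd_mul, Prod.snd_inv, D.snd_w1, D.snd_A, qel_conj, nel_ev _ one_ne_zero,
    smul_comm, (plane_fix (by simp [D.ne12]) (by simp) _).2.2.1, inv_one, one_smul]
  have h : om D.f1 D.e2 = 0 := D.om_f1_e2
  rw [show qel D.f1 (d • D.e2) 0 = qel (d • D.f1) D.e2 0 by rw [qel_smul_fst h, mul_zero],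
    qel_symm (by rw [om_smul_left, h, mul_zero])]

theorem X_e1 (c : F) : (D.X c).2 • D.e1 = D.e1 := by
  rw [D.snd_X, qel_fix (by rw [om_smul_right, D.om_e1_f2, mul_zero]) 0 (om_self _)
    (by rw [om_smul_right, D.om_e1_f2, mul_zero])]

theorem X_e2 (c : F) : (D.X c).2 • D.e2 = D.e2 + c • D.e1 := by
  rw [D.snd_X, qel_smul (by rw [om_smul_right, D.om_e1_f2, mul_zero]), om_smul_right, om_ev_fv, om_ev_ev]
  module

theorem X_f1 (c : F) : (D.X c).2 • D.f1 = D.f1 - c • D.f2 := by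
  rw [D.snd_X, qel_smul (by rw [om_smul_right, D.om_e1_f2, mul_zero]), om_smul_right, om_fv_ev, om_fv_fv]
  module

theorem X_f2 (c : F) : (D.X c).2 • D.f2 = D.f2 := by
  rw [D.snd_X, qel_fix (by rw [om_smul_right, D.om_e1_f2, mul_zero]) 0
    (D.V'_om D.f2_V).2.1 (by rw [om_smul_right, om_self, mul_zero])]

theorem Y_e1 (d : F) : (D.Y d).2 • D.e1 = D.e1 + d • D.e2 := by
  rw [D.snd_Y, qel_smul (by rw [om_smul_right, D.om_e2_f1, mul_zero]), om_smul_right, om_ev_fv, om_ev_ev]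
  module

theorem Y_e2 (d : F) : (D.Y d).2 • D.e2 = D.e2 := by
  rw [D.snd_Y, qel_fix (by rw [om_smul_right, D.om_e2_f1, mul_zero]) 0 (om_self _)
    (by rw [om_smul_right, D.om_e2_f1, mul_zero])]

theorem Y_f1 (d : F) : (D.Y d).2 • D.f1 = D.f1 := by
  rw [D.snd_Y, qel_fix (by rw [om_smul_right, D.om_e2_f1, mul_zero]) 0
    D.om_f1_e2 (by rw [om_smul_right, om_self, mul_zero])]

theorem Y_f2 (d : F) : (D.Y d).2 • D.f2 = D.f2 - d • D.f1 := by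
  rw [D.snd_Y, qel_smul (by rw [om_smul_right, D.om_e2_f1, mul_zero]), om_smul_right, om_fv_ev, om_fv_fv]
  module

theorem X_add (c c' : F) : D.X c * D.X c' = D.X (c + c') := by
  rw [X, X, X, D.u_mul (inW_smul D.f2_V c) (inW_smul D.f2_V c'), ← add_smul, om_smul_left, om_smul_right,
    om_self, mul_zero, mul_zero, D.z_zero, mul_one]

theorem X_zero : D.X 0 = 1 := by rw [X, zero_smul, D.u_zero]

theorem X_inv (c : F) : (D.X c)⁻¹ = D.X (-c) :=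
  inv_eq_of_mul_eq_one_right (by rw [D.X_add, add_neg_cancel, D.X_zero])

theorem Y_add (d d' : F) : D.Y d * D.Y d' = D.Y (d + d') := by
  simp only [Y]
  rw [← D.A_add]
  group

theorem Y_zero : D.Y 0 = 1 := by
  rw [Y, ← D.u_smul_e2, zero_smul, D.u_zero, mul_one, mul_inv_cancel]

theorem Y_inv (d : F) : (D.Y d)⁻¹ = D.Y (-d) :=
  inv_eq_of_mul_eq_one_right (by rw [D.Y_add, add_neg_cancel, D.Y_zero])

theorem io_comm_w1 (g : Sp n F) : D.io g * D.w1 = D.w1 * D.io g := (D.comm_a1 D.w1_mem (D.io_mem g)).symm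

theorem io_comm_t1 (g : Sp n F) (a : F) : D.io g * D.t1 a = D.t1 a * D.io g :=
  (D.comm_a1 (D.t1_mem a) (D.io_mem g)).symm

theorem io_comm_Y {g : Sp n F} (hg : g ∈ D.G') (he : g • D.e2 = D.e2) (d : F) :
    D.io g * D.Y d = D.Y d * D.io g :=
  ((Commute.mul_right (Commute.mul_right (D.io_comm_w1 g) (D.comm_A hg he d))
    (Commute.inv_right (D.io_comm_w1 g))) : Commute _ _)

/-- conjugating by elements of `E₂` which fix the span of `e₁, e₂` -/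
theorem conj_im2 {x : H × Sp n F} (hx : x ∈ D.E2) {y : H × Sp n F} (hy : y ∈ D.C.gr D.im)
    (h : x.2 * y.2 * x.2⁻¹ ∈ Mset F D.i1) : x * y * x⁻¹ ∈ D.C.gr D.im := by
  rw [D.eq2 (mul_mem (mul_mem hx (Subgroup.mem_sup_left hy)) (inv_mem hx))
    (Subgroup.mem_sup_left (D.C.lift_mem D.im (x.2 * y.2 * x.2⁻¹))) (D.C.snd_lift (a := D.im) h).symm]
  exact D.C.lift_mem _ _

/-- conjugating by elements of `E₁` which fix the span of `e₁, e₂` -/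
theorem conj_im1 {x : H × Sp n F} (hx : x ∈ D.E1) {y : H × Sp n F} (hy : y ∈ D.C.gr D.im)
    (h : x.2 * y.2 * x.2⁻¹ ∈ Mset F D.i1) : x * y * x⁻¹ ∈ D.C.gr D.im := by
  rw [D.eq1 (mul_mem (mul_mem hx (Subgroup.mem_sup_left hy)) (inv_mem hx))
    (Subgroup.mem_sup_left (D.C.lift_mem D.im (x.2 * y.2 * x.2⁻¹))) (D.C.snd_lift (a := D.im) h).symm]
  exact D.C.lift_mem _ _

/-- the span of `e₁, e₂` -/
def Span (v : Vec n F) : Prop := ∃ a b : F, v = a • D.e1 + b • D.e2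

theorem Span_om {v : Vec n F} (hv : D.Span v) (j : Fin n) :
    om (ev F j) v = 0 ∧ ((j : ℕ) ≠ D.i1 → (j : ℕ) ≠ (D.i1 : ℕ) + 1 → om (fv F j) v = 0) := by
  obtain ⟨a, b, rfl⟩ := hv
  refine ⟨by rw [om_add_right, om_smul_right, om_smul_right, om_ev_ev, om_ev_ev, mul_zero, mul_zero, add_zero],
    fun h1 h2 => ?_⟩
  rw [om_fv_left]
  simp [show j ≠ D.i1 from fun e => h1 (congrArg Fin.val e),
    show j ≠ D.i2 from fun e => h2 (by rw [e]; rfl)]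

theorem conj_Mset {x g : Sp n F} (h1 : D.Span (x • D.e1)) (h2 : D.Span (x • D.e2)) (hg : g ∈ Mset F D.i1) :
    x * g * x⁻¹ ∈ Mset F D.i1 := by
  obtain ⟨a, s, t, rfl⟩ := Mset_decomp D.i2_val hg
  have h2a : D.Span (a • x • D.e2) := by
    obtain ⟨p, q, h⟩ := h2
    exact ⟨a * p, a * q, by rw [h, smul_add, smul_smul, smul_smul]⟩
  have tv_in : ∀ (v : Vec n F) (c : F), D.Span v → tvv v c ∈ Mset F D.i1 := fun v c hv =>
    mem_Mset.2 ⟨fun j => by rw [tvv_smul, (D.Span_om hv j).1, mul_zero, zero_smul, add_zero],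
      fun j a b => by rw [tvv_smul, (D.Span_om hv j).2 a b, mul_zero, zero_smul, add_zero]⟩
  have e : x * (qel D.e1 (a • D.e2) 0 * tvv D.e1 s * tvv D.e2 t) * x⁻¹ =
      qel (x • D.e1) (a • x • D.e2) 0 * tvv (x • D.e1) s * tvv (x • D.e2) t := by
    rw [← tvv_conj, ← tvv_conj, ← smul_comm x a, ← qel_conj]
    group
  rw [e]
  refine mul_mem (mul_mem ?_ (tv_in _ _ h1)) (tv_in _ _ h2)
  refine mul_mem (mul_mem (tv_in _ _ ?_) (tv_in _ _ h1)) (tv_in _ _ h2a)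
  obtain ⟨p, q, hp⟩ := h1
  obtain ⟨p', q', hp'⟩ := h2a
  exact ⟨p + p', q + q', by rw [hp, hp']; module⟩

theorem X_im (c : F) {y : H × Sp n F} (hy : y ∈ D.C.gr D.im) : D.X c * y * (D.X c)⁻¹ ∈ D.C.gr D.im :=
  D.conj_im2 (D.X_mem c) hy (D.conj_Mset ⟨1, 0, by rw [D.X_e1]; module⟩ ⟨c, 1, by rw [D.X_e2]; module⟩
    (D.C.snd_mem hy))

theorem Y_im (d : F) {y : H × Sp n F} (hy : y ∈ D.C.gr D.im) : D.Y d * y * (D.Y d)⁻¹ ∈ D.C.gr D.im :=
  D.conj_im1 (D.Y_mem d) hy (D.conj_Mset ⟨1, d, by rw [D.Y_e1]; module⟩ ⟨0, 1, by rw [D.Y_e2]; module⟩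
    (D.C.snd_mem hy))

/-- the Weyl element interchanging the two planes -/
noncomputable def r : H × Sp n F := D.X (-1) * D.Y 1 * D.X (-1)
/-- its partner -/
noncomputable def r' : H × Sp n F := D.Y 1 * D.X (-1) * D.Y 1

theorem r_im {y : H × Sp n F} (hy : y ∈ D.C.gr D.im) : D.r * y * D.r⁻¹ ∈ D.C.gr D.im := by
  have := D.X_im (-1) (D.Y_im 1 (D.X_im (-1) hy))
  convert this using 1
  simp only [r]
  group

theorem r'_im {y : H × Sp n F} (hy : y ∈ D.C.gr D.im) : D.r' * y * D.r'⁻¹ ∈ D.C.gr D.im := by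
  have := D.Y_im 1 (D.X_im (-1) (D.Y_im 1 hy))
  convert this using 1
  simp only [r']
  group

theorem r_e1 : D.r.2 • D.e1 = D.e2 := by
  simp only [r, Prod.snd_mul, mul_smul, D.X_e1, D.Y_e1, smul_add, smul_comm (_ : Sp n F) (_ : F), D.X_e2, one_smul]
  module

theorem r_e2 : D.r.2 • D.e2 = -D.e1 := by
  simp only [r, Prod.snd_mul, mul_smul, D.X_e2, D.X_e1, D.Y_e1, D.Y_e2, smul_add, smul_comm (_ : Sp n F) (_ : F), one_smul]
  module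

theorem r_f1 : D.r.2 • D.f1 = D.f2 := by
  simp only [r, Prod.snd_mul, mul_smul, D.X_f1, D.X_f2, D.Y_f1, D.Y_f2, smul_sub, smul_comm (_ : Sp n F) (_ : F), one_smul]
  module

theorem r_f2 : D.r.2 • D.f2 = -D.f1 := by
  simp only [r, Prod.snd_mul, mul_smul, D.X_f1, D.X_f2, D.Y_f2, smul_sub, smul_comm (_ : Sp n F) (_ : F), one_smul]
  module

theorem r'_e1 : D.r'.2 • D.e1 = D.e2 := by
  simp only [r', Prod.snd_mul, mul_smul, D.X_e1, D.X_e2, D.Y_e1, D.Y_e2, smul_add, smul_comm (_ : Sp n F) (_ : F), one_smul]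
  module

theorem r'_e2 : D.r'.2 • D.e2 = -D.e1 := by
  simp only [r', Prod.snd_mul, mul_smul, D.X_e2, D.Y_e1, D.Y_e2, smul_add, smul_comm (_ : Sp n F) (_ : F), one_smul]
  module

/-- the product of the two Weyl elements -/
noncomputable def W : H × Sp n F := D.w1 * D.w2

theorem W_X (c : F) : D.W * D.X c * D.W⁻¹ = D.Y (-c) := by
  have h : D.w2 * D.X c * D.w2⁻¹ = D.A (-c) := by
    rw [D.w2_eq_io, X, D.u_conj (Sset_le_Gk (k := D.k + 1) (le_of_eq rfl) (nel_mem D.i2 1))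
      (inW_smul D.f2_V c), smul_comm, nel_fv _ one_ne_zero, smul_smul, ← D.u_smul_e2]
    congr 2
    ring
  rw [Y, ← h, W]
  group

theorem W_Y (d : F) : D.W * D.Y d * D.W⁻¹ = D.X (-d) := by
  have h : D.w2 * D.A d * D.w2⁻¹ = D.X d := by
    rw [D.w2_eq_io, ← D.u_smul_e2, D.u_conj (Sset_le_Gk (k := D.k + 1) (le_of_eq rfl) (nel_mem D.i2 1))
      (inW_smul D.e2_V d), smul_comm, nel_ev _ one_ne_zero, inv_one, one_smul, X]
  have hc : D.w2 * D.w1 = D.w1 * D.w2 := (D.a1_a2 D.w1_mem D.w2_mem).symm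
  have h2 : D.t1 (-1) * D.X d * (D.t1 (-1))⁻¹ = D.X (-d) := by
    rw [X, X, D.t1_u (neg_ne_zero.2 one_ne_zero) (inW_smul D.f2_V d), smul_smul, neg_one_mul]
  rw [← h2, ← h, ← D.w1_sq, Y, W]
  calc D.w1 * D.w2 * (D.w1 * D.A d * D.w1⁻¹) * (D.w1 * D.w2)⁻¹
      = D.w1 * (D.w2 * D.w1) * D.A d * (D.w1 * (D.w2 * D.w1))⁻¹ * 1 := by group
    _ = _ := by rw [hc]; group

theorem W_r : D.W * D.r * D.W⁻¹ = D.r' := by
  have : D.W * D.r * D.W⁻¹ = (D.W * D.X (-1) * D.W⁻¹) * (D.W * D.Y 1 * D.W⁻¹) * (D.W * D.X (-1) * D.W⁻¹) := by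
    simp only [r]; group
  rw [this, D.W_X, D.W_Y, neg_neg]
  rfl

theorem lift_f1 (s : F) : D.C.lift D.a1 (tvv D.f1 s) = D.W⁻¹ * D.z s * D.W := by
  have h : D.w2⁻¹ * (D.w1⁻¹ * D.z s * D.w1) * D.w2 = D.w1⁻¹ * D.z s * D.w1 := by
    have hc := D.a1_a2 (mul_mem (mul_mem (inv_mem D.w1_mem) (D.z_mem_a1 s)) D.w1_mem) D.w2_mem
    rw [mul_assoc, hc, inv_mul_cancel_left]
  rw [show D.W⁻¹ * D.z s * D.W = D.w2⁻¹ * (D.w1⁻¹ * D.z s * D.w1) * D.w2 by simp only [W]; group, h]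
  refine (D.C.eq_lift (mul_mem (mul_mem (inv_mem D.w1_mem) (D.z_mem_a1 s)) D.w1_mem) ?_).symm
  have := tvv_conj (nel D.i1 (1 : F)) D.f1 s
  rw [nel_fv _ one_ne_zero, neg_one_smul, tvv_neg_vec] at this
  rw [Prod.snd_mul, Prod.snd_mul, Prod.snd_inv, D.snd_w1, D.snd_z, ← this]
  group

theorem lift_f2 (s : F) : D.C.lift D.a2 (tvv D.f2 s) = D.W⁻¹ * D.z2 s * D.W := by
  have h : D.w1⁻¹ * D.z2 s * D.w1 = D.z2 s := by
    rw [mul_assoc, ← D.a1_a2 D.w1_mem (D.z2_mem_a2 s), inv_mul_cancel_left]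
  rw [show D.W⁻¹ * D.z2 s * D.W = D.w2⁻¹ * (D.w1⁻¹ * D.z2 s * D.w1) * D.w2 by simp only [W]; group, h]
  refine (D.C.eq_lift (mul_mem (mul_mem (inv_mem D.w2_mem) (D.z2_mem_a2 s)) D.w2_mem) ?_).symm
  have := tvv_conj (nel D.i2 (1 : F)) D.f2 s
  rw [nel_fv _ one_ne_zero, neg_one_smul, tvv_neg_vec] at this
  rw [Prod.snd_mul, Prod.snd_mul, Prod.snd_inv, D.snd_w2, D.snd_z2, ← this]
  group

theorem r_z (s : F) : D.r * D.z s * D.r⁻¹ = D.z2 s :=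
  D.C.eq_of_snd_one (D.r_im (D.z_mem s)) (D.z2_mem s)
    (by rw [Prod.snd_mul, Prod.snd_mul, Prod.snd_inv, D.snd_z, D.snd_z2, tvv_conj, D.r_e1])

theorem r_z2 (s : F) : D.r * D.z2 s * D.r⁻¹ = D.z s :=
  D.C.eq_of_snd_one (D.r_im (D.z2_mem s)) (D.z_mem s)
    (by rw [Prod.snd_mul, Prod.snd_mul, Prod.snd_inv, D.snd_z, D.snd_z2, tvv_conj, D.r_e2, tvv_neg_vec])

theorem r'_z (s : F) : D.r' * D.z s * D.r'⁻¹ = D.z2 s :=
  D.C.eq_of_snd_one (D.r'_im (D.z_mem s)) (D.z2_mem s)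
    (by rw [Prod.snd_mul, Prod.snd_mul, Prod.snd_inv, D.snd_z, D.snd_z2, tvv_conj, D.r'_e1])

theorem r'_z2 (s : F) : D.r' * D.z2 s * D.r'⁻¹ = D.z s :=
  D.C.eq_of_snd_one (D.r'_im (D.z2_mem s)) (D.z_mem s)
    (by rw [Prod.snd_mul, Prod.snd_mul, Prod.snd_inv, D.snd_z, D.snd_z2, tvv_conj, D.r'_e2, tvv_neg_vec])

theorem r_a1 {x : H × Sp n F} (hx : x ∈ D.C.gr D.a1) : D.r * x * D.r⁻¹ ∈ D.C.gr D.a2 := by
  refine D.C.gr_inl_le (K := (D.C.gr D.a2).comap (MulAut.conj D.r).toMonoidHom) ?_ ?_ hx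
  · intro c
    show D.r * D.C.lift D.a1 (tvv D.e1 c) * D.r⁻¹ ∈ D.C.gr D.a2
    rw [← D.z_eq_a1, D.r_z]
    exact D.z2_mem_a2 c
  · intro c
    show D.r * D.C.lift D.a1 (tvv D.f1 c) * D.r⁻¹ ∈ D.C.gr D.a2
    have h : D.r * D.C.lift D.a1 (tvv D.f1 c) * D.r⁻¹ = D.W⁻¹ * (D.r' * D.z c * D.r'⁻¹) * D.W := by
      rw [D.lift_f1, ← D.W_r]; group
    rw [h, D.r'_z, ← D.lift_f2]
    exact D.C.lift_mem _ _

theorem r_a2 {x : H × Sp n F} (hx : x ∈ D.C.gr D.a2) : D.r * x * D.r⁻¹ ∈ D.C.gr D.a1 := by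
  refine D.C.gr_inl_le (K := (D.C.gr D.a1).comap (MulAut.conj D.r).toMonoidHom) ?_ ?_ hx
  · intro c
    show D.r * D.C.lift D.a2 (tvv D.e2 c) * D.r⁻¹ ∈ D.C.gr D.a1
    rw [← D.z2_eq_a2, D.r_z2]
    exact D.z_mem_a1 c
  · intro c
    show D.r * D.C.lift D.a2 (tvv D.f2 c) * D.r⁻¹ ∈ D.C.gr D.a1
    have h : D.r * D.C.lift D.a2 (tvv D.f2 c) * D.r⁻¹ = D.W⁻¹ * (D.r' * D.z2 c * D.r'⁻¹) * D.W := by
      rw [D.lift_f2, ← D.W_r]; group
    rw [h, D.r'_z2, ← D.lift_f1]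
    exact D.C.lift_mem _ _

theorem r_X (c : F) : D.r * D.X c * D.r⁻¹ = D.Y (-c) := by
  set a := D.C.lift D.a2 (tvv D.f2 c) with ha
  have haG : tvv D.f2 c ∈ D.G' := tvv_mem_Gk D.f2_V c
  have hsa : a.2 = tvv D.f2 c := D.C.snd_lift (a := D.a2) (tvv_fv_mem _ _)
  have hX : D.X c = a * D.A 1 * a⁻¹ * (D.A 1)⁻¹ * D.z c := by
    have hh : tvv D.f2 c • D.e2 = D.e2 + c • D.f2 := by rw [tvv_smul, om_ev_fv, mul_one]
    have e : a * D.A 1 * a⁻¹ = D.u (D.e2 + c • D.f2) := by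
      rw [ha, D.lift_a2 (tvv_fv_mem _ _), D.u_eq haG hh]
    rw [e, ← D.u_smul_e2, one_smul, D.u_inv D.e2_V, D.u_mul (inW_add D.e2_V (inW_smul D.f2_V c))
      (Vk_neg D.e2_V), X, mul_assoc, D.z_add]
    rw [show D.e2 + c • D.f2 + -D.e2 = c • D.f2 by module]
    have : om (-D.e2) (D.e2 + c • D.f2) + c = 0 := by
      rw [om_neg_left, om_add_right, om_self, om_smul_right, om_ev_fv]
      ring
    rw [this, D.z_zero, mul_one]
  refine D.eq1 ?_ (D.Y_mem _) ?_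
  · rw [hX, show D.r * (a * D.A 1 * a⁻¹ * (D.A 1)⁻¹ * D.z c) * D.r⁻¹ =
      (D.r * a * D.r⁻¹) * (D.r * D.A 1 * D.r⁻¹) * (D.r * a * D.r⁻¹)⁻¹ * (D.r * D.A 1 * D.r⁻¹)⁻¹ *
        (D.r * D.z c * D.r⁻¹) by group]
    have h1 : D.r * a * D.r⁻¹ ∈ D.E1 := Subgroup.mem_sup_right (D.r_a2 (D.C.lift_mem _ _))
    have h2 : D.r * D.A 1 * D.r⁻¹ ∈ D.E1 := Subgroup.mem_sup_left (D.r_im (D.A_mem 1))
    exact mul_mem (mul_mem (mul_mem (mul_mem h1 h2) (inv_mem h1)) (inv_mem h2))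
      (Subgroup.mem_sup_left (D.r_im (D.z_mem c)))
  · rw [Prod.snd_mul, Prod.snd_mul, Prod.snd_inv, D.snd_X, D.snd_Y, qel_conj, D.r_e1, smul_comm, D.r_f2,
      smul_neg, neg_smul]

theorem r_Y (d : F) : D.r * D.Y d * D.r⁻¹ = D.X (-d) := by
  set a := D.C.lift D.a1 (tvv D.f1 d) with ha
  have hsa : a.2 = tvv D.f1 d := D.C.snd_lift (a := D.a1) (tvv_fv_mem _ _)
  have hY : D.Y d = a * D.A 1 * a⁻¹ * (D.A 1)⁻¹ * D.z2 d := by
    have hm : a ∈ D.E1 := Subgroup.mem_sup_right (D.C.lift_mem _ _)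
    have hA : D.A 1 ∈ D.E1 := Subgroup.mem_sup_left (D.A_mem 1)
    refine D.eq1 (D.Y_mem d) (mul_mem (mul_mem (mul_mem (mul_mem hm hA) (inv_mem hm)) (inv_mem hA))
      (Subgroup.mem_sup_left (D.z2_mem d))) ?_
    have hh : tvv D.f1 d • D.e1 = D.e1 + d • D.f1 := by rw [tvv_smul, om_ev_fv, mul_one]
    have hh2 : tvv D.f1 d • D.e2 = D.e2 := by
      rw [tvv_smul, D.om_e2_f1, mul_zero, zero_smul, add_zero]
    have h21 : om D.e2 D.e1 = 0 := om_ev_ev _ _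
    have h12 : om D.e1 D.e2 = 0 := om_ev_ev _ _
    have o1 : om D.e2 (D.e1 + d • D.f1) = 0 := by
      rw [om_add_right, om_smul_right, h21, D.om_e2_f1, mul_zero, add_zero]
    have o1' : om (D.e1 + d • D.f1) D.e2 = 0 := by rw [om_swap, o1, neg_zero]
    have hinv : (qel D.e1 D.e2 0)⁻¹ = qel D.e2 (-D.e1) 0 := by
      rw [qel_symm h12]
      refine inv_eq_of_mul_eq_one_right ?_
      rw [qel_mul h21 (by rw [om_neg_right, h21, neg_zero]), add_neg_cancel, qel_zero, om_neg_left, om_self,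
        neg_zero, add_zero, add_zero, tvv_zero]
    have om' : om D.e2 (d • D.f1) = 0 := by rw [om_smul_right, D.om_e2_f1, mul_zero]
    rw [D.snd_Y]
    simp only [Prod.snd_mul, Prod.snd_inv, hsa, D.snd_A, one_smul, D.snd_z2, qel_conj, hh, hh2, hinv]
    rw [qel_symm o1', qel_mul o1 (by rw [om_neg_right, h21, neg_zero]), ← qel_zero D.e2 d,
      qel_mul (by rw [show D.e1 + d • D.f1 + -D.e1 = d • D.f1 by module]; exact om') (om_zero_right _),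
      show D.e1 + d • D.f1 + -D.e1 + 0 = d • D.f1 by module]
    congr 1
    rw [om_zero_left, om_neg_left, om_add_right, om_self, om_smul_right, om_ev_fv]
    ring
  refine D.eq2 ?_ (D.X_mem _) ?_
  · rw [hY, show D.r * (a * D.A 1 * a⁻¹ * (D.A 1)⁻¹ * D.z2 d) * D.r⁻¹ =
      (D.r * a * D.r⁻¹) * (D.r * D.A 1 * D.r⁻¹) * (D.r * a * D.r⁻¹)⁻¹ * (D.r * D.A 1 * D.r⁻¹)⁻¹ *
        (D.r * D.z2 d * D.r⁻¹) by group]
    have h1 : D.r * a * D.r⁻¹ ∈ D.E2 := Subgroup.mem_sup_right (D.r_a1 (D.C.lift_mem _ _))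
    have h2 : D.r * D.A 1 * D.r⁻¹ ∈ D.E2 := Subgroup.mem_sup_left (D.r_im (D.A_mem 1))
    exact mul_mem (mul_mem (mul_mem (mul_mem h1 h2) (inv_mem h1)) (inv_mem h2))
      (Subgroup.mem_sup_left (D.r_im (D.z2_mem d)))
  · rw [Prod.snd_mul, Prod.snd_mul, Prod.snd_inv, D.snd_Y, D.snd_X, qel_conj, D.r_e2, smul_comm, D.r_f1,
      qel_neg_fst (by rw [om_smul_right, D.om_e1_f2, mul_zero]), neg_smul]

theorem r_t1 {a : F} (ha : a ≠ 0) : D.r * D.t1 a * D.r⁻¹ = D.t2 a := by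
  refine D.C.eq_of_snd_one (D.r_a1 (D.t1_mem a)) (D.t2_mem a) ?_
  have h1 : ∀ c, D.r.2 * tvv D.e1 c * D.r.2⁻¹ = tvv D.e2 c := fun c => by rw [tvv_conj, D.r_e1]
  have h2 : ∀ c, D.r.2 * tvv D.f1 c * D.r.2⁻¹ = tvv D.f2 c := fun c => by rw [tvv_conj, D.r_f1]
  rw [Prod.snd_mul, Prod.snd_mul, Prod.snd_inv, D.snd_t1, D.snd_t2]
  simp only [tor, nel]
  simp only [← h1, ← h2]
  group

/-- the diagonal torus -/
noncomputable def T (a : F) : H × Sp n F := D.t1 a * D.t2 a⁻¹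

theorem T_one : D.T 1 = 1 := by rw [T, inv_one, D.t1_one, D.t2_one, mul_one]

theorem T_mul {a b : F} (ha : a ≠ 0) (hb : b ≠ 0) : D.T a * D.T b = D.T (a * b) := by
  simp only [T]
  rw [mul_assoc, ← mul_assoc (D.t2 a⁻¹), ← D.a1_a2 (D.t1_mem b) (D.t2_mem a⁻¹), mul_assoc (D.t1 b),
    D.t2_mul (inv_ne_zero ha) (inv_ne_zero hb), ← mul_assoc, D.t1_mul ha hb, mul_inv]

theorem t1_X {a : F} (ha : a ≠ 0) (c : F) : D.t1 a * D.X c * (D.t1 a)⁻¹ = D.X (a * c) := by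
  rw [X, X, D.t1_u ha (inW_smul D.f2_V c), smul_smul]

theorem t2_X {a : F} (ha : a ≠ 0) (c : F) : D.t2 a * D.X c * (D.t2 a)⁻¹ = D.X (c * a⁻¹) := by
  rw [D.t2_eq_io, X, X, D.u_conj (Sset_le_Gk (k := D.k + 1) (le_of_eq rfl) (tor_mem D.i2 a))
    (inW_smul D.f2_V c), smul_comm, tor_fv _ ha, smul_smul]

theorem t1_Y {a : F} (ha : a ≠ 0) (d : F) : D.t1 a * D.Y d * (D.t1 a)⁻¹ = D.Y (d * a⁻¹) := by
  rw [show D.Y (d * a⁻¹) = D.w1 * (D.t1 a⁻¹ * D.A d * (D.t1 a⁻¹)⁻¹) * D.w1⁻¹ by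
    rw [D.t1_A (inv_ne_zero ha), mul_comm a⁻¹]; rfl, Y]
  calc _ = (D.t1 a * D.w1) * D.A d * (D.t1 a * D.w1)⁻¹ := by group
    _ = _ := by rw [D.t1_w1 ha]; group

theorem t2_A {a : F} (ha : a ≠ 0) (d : F) : D.t2 a * D.A d * (D.t2 a)⁻¹ = D.A (a * d) := by
  rw [D.t2_eq_io, ← D.u_smul_e2, D.u_conj (Sset_le_Gk (k := D.k + 1) (le_of_eq rfl) (tor_mem D.i2 a))
    (inW_smul D.e2_V d), smul_comm, tor_ev _ ha, smul_smul, mul_comm d, D.u_smul_e2]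

theorem t2_Y {a : F} (ha : a ≠ 0) (d : F) : D.t2 a * D.Y d * (D.t2 a)⁻¹ = D.Y (a * d) := by
  rw [show D.Y (a * d) = D.w1 * (D.t2 a * D.A d * (D.t2 a)⁻¹) * D.w1⁻¹ by rw [D.t2_A ha]; rfl, Y]
  calc _ = (D.t2 a * D.w1) * D.A d * (D.t2 a * D.w1)⁻¹ := by group
    _ = _ := by rw [← D.a1_a2 D.w1_mem (D.t2_mem a)]; group

theorem T_X {a : F} (ha : a ≠ 0) (c : F) : D.T a * D.X c = D.X (a * a * c) * D.T a := by
  have : D.T a * D.X c * (D.T a)⁻¹ = D.X (a * a * c) := by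
    rw [show D.T a * D.X c * (D.T a)⁻¹ = D.t1 a * (D.t2 a⁻¹ * D.X c * (D.t2 a⁻¹)⁻¹) * (D.t1 a)⁻¹ by
      simp only [T]; group, D.t2_X (inv_ne_zero ha), D.t1_X ha, inv_inv]
    ring_nf
  rw [← this, inv_mul_cancel_right]

theorem rho {c : F} (hc : c ≠ 0) : D.X c * D.Y (-c⁻¹) * D.X c = D.T (-c) * D.r := by
  have ha : -c ≠ 0 := neg_ne_zero.2 hc
  have h : D.t1 (-c) * D.r * (D.t1 (-c))⁻¹ = D.X c * D.Y (-c⁻¹) * D.X c := by
    rw [show D.t1 (-c) * D.r * (D.t1 (-c))⁻¹ = (D.t1 (-c) * D.X (-1) * (D.t1 (-c))⁻¹) *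
      (D.t1 (-c) * D.Y 1 * (D.t1 (-c))⁻¹) * (D.t1 (-c) * D.X (-1) * (D.t1 (-c))⁻¹) by simp only [r]; group,
      D.t1_X ha, D.t1_Y ha]
    congr 3 <;> field_simp
  rw [← h, T, ← D.t2_inv ha, ← D.r_t1 ha]
  group

theorem r_inv : D.r⁻¹ = D.T (-1) * D.r := by
  rw [← D.rho (c := 1) one_ne_zero, inv_one]
  refine inv_eq_of_mul_eq_one_right ?_
  simp only [r]
  rw [show D.X (-1) = (D.X 1)⁻¹ from (D.X_inv 1).symm, show D.Y (-1) = (D.Y 1)⁻¹ from (D.Y_inv 1).symm]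
  group

theorem r_t2 {a : F} (ha : a ≠ 0) : D.r * D.t2 a * D.r⁻¹ = D.t1 a := by
  have h1 : (D.T (-1))⁻¹ = D.r * D.r := by
    refine inv_eq_of_mul_eq_one_right ?_
    rw [← mul_assoc, ← D.r_inv, inv_mul_cancel]
  have h2 : Commute (D.T (-1)) (D.t1 a) := by
    refine Commute.mul_left ?_ (D.a1_a2 (D.t1_mem a) (D.t2_mem _)).symm
    show _ * _ = _ * _
    rw [D.t1_mul (neg_ne_zero.2 one_ne_zero) ha, D.t1_mul ha (neg_ne_zero.2 one_ne_zero), mul_comm]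
  rw [← D.r_t1 ha]
  calc D.r * (D.r * D.t1 a * D.r⁻¹) * D.r⁻¹ = (D.r * D.r) * D.t1 a * (D.r * D.r)⁻¹ := by group
    _ = (D.T (-1))⁻¹ * D.t1 a * ((D.T (-1))⁻¹)⁻¹ := by rw [h1]
    _ = _ := by rw [inv_inv, h2.inv_left.eq, inv_mul_cancel_right]

theorem r_T {a : F} (ha : a ≠ 0) : D.r * D.T a * D.r⁻¹ = D.T a⁻¹ := by
  rw [show D.r * D.T a * D.r⁻¹ = (D.r * D.t1 a * D.r⁻¹) * (D.r * D.t2 a⁻¹ * D.r⁻¹) by simp only [T]; group,
    D.r_t1 ha, D.r_t2 (inv_ne_zero ha), T, inv_inv, D.a1_a2 (D.t1_mem _) (D.t2_mem _)]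

theorem gauss {p d : F} (h : 1 + p * d ≠ 0) :
    D.X p * D.Y d = D.Y (d / (1 + p * d)) * D.T (1 + p * d) * D.X (p / (1 + p * d)) := by
  by_cases hd : d = 0
  · subst hd
    simp [D.Y_zero, D.T_one]
  set α := 1 + p * d with hα
  have hY : ∀ e : F, e ≠ 0 → D.Y e = D.X e⁻¹ * D.T e⁻¹ * D.r * D.X e⁻¹ := by
    intro e he
    have := D.rho (c := -e⁻¹) (neg_ne_zero.2 (inv_ne_zero he))
    simp only [neg_neg, inv_neg, inv_inv] at this
    rw [mul_assoc (D.X e⁻¹), ← this, show D.X (-e⁻¹) = (D.X e⁻¹)⁻¹ from (D.X_inv _).symm]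
    group
  have hd' : d / α ≠ 0 := div_ne_zero hd h
  have hr : D.r * D.T α = D.T α⁻¹ * D.r := by rw [← D.r_T h, inv_mul_cancel_right]
  have hx : D.X (d / α)⁻¹ * D.T α = D.T α * D.X ((d / α)⁻¹ / (α * α)) := by
    rw [D.T_X h, mul_div_cancel₀ _ (mul_ne_zero h h)]
  rw [hY d hd, hY _ hd']
  calc D.X p * (D.X d⁻¹ * D.T d⁻¹ * D.r * D.X d⁻¹) = D.X (p + d⁻¹) * D.T d⁻¹ * D.r * D.X d⁻¹ := by
        rw [← mul_assoc, ← mul_assoc, ← mul_assoc, D.X_add]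
    _ = D.X (d / α)⁻¹ * (D.T (d / α)⁻¹ * D.T α⁻¹) * D.r * D.X ((d / α)⁻¹ / (α * α) + p / α) := by
        rw [D.T_mul (inv_ne_zero hd') (inv_ne_zero h)]
        congr 3 <;> field_simp
        · rw [hα]; ring
        · rw [hα]; ring
    _ = D.X (d / α)⁻¹ * D.T (d / α)⁻¹ * D.r * (D.T α * D.X ((d / α)⁻¹ / (α * α))) * D.X (p / α) := by
        rw [← D.X_add]; simp only [mul_assoc]; rw [← mul_assoc D.r (D.T α), hr]; simp only [mul_assoc]
    _ = _ := by rw [← hx]; simp only [mul_assoc]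

theorem gauss' {s c : F} (h : 1 + s * c ≠ 0) :
    D.Y s * D.X c = D.X (c / (1 + s * c)) * D.T (1 + s * c)⁻¹ * D.Y (s / (1 + s * c)) := by
  have h' : 1 + -s * -c ≠ 0 := by rwa [neg_mul_neg]
  have := congrArg (fun x => D.r * x * D.r⁻¹) (D.gauss h')
  simp only [neg_mul_neg] at this
  rw [show D.r * (D.X (-s) * D.Y (-c)) * D.r⁻¹ = (D.r * D.X (-s) * D.r⁻¹) * (D.r * D.Y (-c) * D.r⁻¹) by group,
    show D.r * (D.Y (-c / (1 + s * c)) * D.T (1 + s * c) * D.X (-s / (1 + s * c))) * D.r⁻¹ =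
      (D.r * D.Y (-c / (1 + s * c)) * D.r⁻¹) * (D.r * D.T (1 + s * c) * D.r⁻¹) *
        (D.r * D.X (-s / (1 + s * c)) * D.r⁻¹) by group, D.r_X, D.r_Y, D.r_Y, D.r_X, D.r_T h] at this
  simpa [neg_div] using this

theorem t1_mem_Ek (a : F) : D.t1 a ∈ D.C.Ek D.k := D.a1_mem_Ek (D.t1_mem a)
theorem w1_mem_Ek : D.w1 ∈ D.C.Ek D.k := D.a1_mem_Ek D.w1_mem

theorem r_mem_Ek : D.r ∈ D.C.Ek D.k :=
  mul_mem (mul_mem (D.u_mem_Ek _) (mul_mem (mul_mem D.w1_mem_Ek (D.im_mem_Ek (D.A_mem 1)))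
    (inv_mem D.w1_mem_Ek))) (D.u_mem_Ek _)

/-- conjugation of a parabolic element by the opposite short root group -/
theorem Y_u {w : Vec n F} (hw : D.V' w) (h0 : om D.e2 w = 0) (d : F) :
    D.Y d * D.u w * (D.Y d)⁻¹ ∈ D.P := by
  set γ := w (.inl D.i2) with hγ
  set v := w - γ • D.e2 with hv
  have hwr : w (.inr D.i2) = 0 := by rwa [om_ev_left] at h0
  have hv2 : Vk (D.k + 2) v := by
    intro j hj
    have hj' := mem_lo.1 hj
    by_cases hji : j = D.i2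
    · subst hji
      simp [hv, hwr, hγ]
    · have hlt : (j : ℕ) < D.k + 1 := by
        by_contra hlt
        exact hji (Fin.ext (show (j : ℕ) = D.k + 1 by omega))
      obtain ⟨x1, x2⟩ := hw j (mem_lo.2 hlt)
      simp [hv, x1, x2, hji]
  have hlt2 : (D.i2 : ℕ) < D.k + 2 := by simp [i2]
  have hvV : D.V' v := fun j hj => hv2 j (mem_lo.2 ((mem_lo.1 hj).trans (Nat.lt_succ_self _)))
  have hdec : D.u w = D.A γ * D.u v := by
    rw [← D.u_smul_e2, D.u_mul (inW_smul D.e2_V γ) hvV, om_smul_right, (om_ev_Vk hlt2 hv2).2.1, mul_zero,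
      D.z_zero, mul_one, hv, add_sub_cancel]
  have part1 : D.Y d * D.A γ * (D.Y d)⁻¹ ∈ D.P := by
    refine D.E1_fix (mul_mem (mul_mem (D.Y_mem d) (Subgroup.mem_sup_left (D.A_mem γ))) (inv_mem (D.Y_mem d))) ?_
    have hfst : (D.Y d).2⁻¹ • D.e1 = D.e1 - d • D.e2 := by
      rw [inv_smul_eq_iff, smul_sub, smul_comm, D.Y_e1, D.Y_e2]
      module
    rw [Prod.snd_mul, Prod.snd_mul, Prod.snd_inv, mul_smul, mul_smul, hfst, D.snd_A,
      qel_fix (by simp [om_smul_right, om_ev_ev]) 0 (by simp [om_sub_left, om_smul_left, om_ev_ev])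
        (by simp [om_sub_left, om_smul_left, om_smul_right, om_ev_ev]),
      ← hfst, smul_inv_smul]
  obtain ⟨c, hc0, hc1⟩ : ∃ c : F, c ≠ 0 ∧ 1 + d * c ≠ 0 := by
    by_cases hd : d = 0
    · exact ⟨1, one_ne_zero, by simp [hd]⟩
    · obtain ⟨c, h1, h2⟩ := exists_ne_two D.hF (-d⁻¹)
      refine ⟨c, h1, fun e => h2 ?_⟩
      field_simp
      linear_combination e
  set g := qel D.e2 (-(c⁻¹ • v)) 0 with hg
  have hgV : D.V' (-(c⁻¹ • v)) := Vk_neg (inW_smul hvV _)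
  have he2v : om D.e2 (-(c⁻¹ • v)) = 0 := by
    rw [om_neg_right, om_smul_right, (om_ev_Vk hlt2 hv2).1, mul_zero, neg_zero]
  have hgG : g ∈ D.G' := qel_mem_Gk D.e2_V hgV 0
  have hge : g • D.e2 = D.e2 := qel_fix he2v 0 (om_self _) he2v
  have hgf : g • (c • D.f2) = v + c • D.f2 := by
    rw [hg, qel_smul he2v]
    simp only [om_smul_left, om_neg_right, om_smul_right, om_fv_ev, (om_ev_Vk hlt2 hv2).2.2.1]
    match_scalars <;> field_simp <;> ring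
  have huv : D.u v = D.io g * D.X c * (D.io g)⁻¹ * (D.X c)⁻¹ := by
    rw [X, D.u_conj hgG (inW_smul D.f2_V c), hgf]
    have := D.u_mul hvV (inW_smul D.f2_V c)
    rw [om_smul_left, (om_ev_Vk hlt2 hv2).2.2.1, mul_zero, D.z_zero, mul_one] at this
    rw [← this, mul_inv_cancel_right]
  have part2 : D.Y d * D.u v * (D.Y d)⁻¹ ∈ D.P := by
    set α := (1 + d * c)⁻¹ with hα
    set c' := c / (1 + d * c)
    set d' := d / (1 + d * c) + -d with hd'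
    have hB : D.Y d * D.X c * (D.Y d)⁻¹ = D.X c' * D.T α * D.Y d' := by
      rw [D.gauss' hc1, D.Y_inv, hd', ← D.Y_add]; simp only [mul_assoc]; rfl
    have hcY := D.io_comm_Y hgG hge
    have hB' : D.Y d * D.u v * (D.Y d)⁻¹ =
        D.io g * (D.X c' * D.T α * D.Y d') * (D.io g)⁻¹ * (D.X c' * D.T α * D.Y d')⁻¹ := by
      rw [← hB, huv]
      calc _ = (D.Y d * D.io g) * D.X c * (D.Y d)⁻¹ * (D.Y d * (D.io g)⁻¹ * (D.X c)⁻¹ * (D.Y d)⁻¹) := by group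
        _ = (D.io g * D.Y d) * D.X c * (D.Y d)⁻¹ * ((D.io g)⁻¹ * D.Y d * (D.X c)⁻¹ * (D.Y d)⁻¹) := by
          rw [hcY d, ((Commute.inv_left (hcY d)) : Commute _ _).eq]
        _ = _ := by group
    have hY' : D.Y d' * (D.io g)⁻¹ * (D.Y d')⁻¹ = (D.io g)⁻¹ := by
      rw [← ((Commute.inv_left (hcY d')) : Commute _ _).eq, mul_inv_cancel_right]
    have hT : D.T α * (D.io g)⁻¹ * (D.T α)⁻¹ = D.t2 α⁻¹ * (D.io g)⁻¹ * (D.t2 α⁻¹)⁻¹ := by
      have hc := D.comm_a1 (D.t1_mem α)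
        (mul_mem (mul_mem (D.a2_le (D.t2_mem α⁻¹)) (inv_mem (D.io_mem g))) (inv_mem (D.a2_le (D.t2_mem α⁻¹))))
      simp only [T]
      calc _ = D.t1 α * (D.t2 α⁻¹ * (D.io g)⁻¹ * (D.t2 α⁻¹)⁻¹) * (D.t1 α)⁻¹ := by group
        _ = _ := by rw [hc, mul_inv_cancel_right]
    rw [hB', show D.io g * (D.X c' * D.T α * D.Y d') * (D.io g)⁻¹ * (D.X c' * D.T α * D.Y d')⁻¹ =
      D.io g * D.X c' * (D.T α * (D.Y d' * (D.io g)⁻¹ * (D.Y d')⁻¹) * (D.T α)⁻¹) * (D.X c')⁻¹ by group, hY', hT]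
    exact mul_mem (mul_mem (mul_mem (D.io_P hgG) (D.X_P c'))
      (mul_mem (mul_mem (D.t2_P _) (inv_mem (D.io_P hgG))) (inv_mem (D.t2_P _)))) (inv_mem (D.X_P c'))
  rw [hdec, show D.Y d * (D.A γ * D.u v) * (D.Y d)⁻¹ =
    (D.Y d * D.A γ * (D.Y d)⁻¹) * (D.Y d * D.u v * (D.Y d)⁻¹) by group]
  exact mul_mem part1 part2

theorem Y_z (d s : F) : D.Y d * D.z s * (D.Y d)⁻¹ ∈ D.P := by
  refine D.E1_fix (mul_mem (mul_mem (D.Y_mem d) (Subgroup.mem_sup_left (D.z_mem s))) (inv_mem (D.Y_mem d))) ?_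
  rw [Prod.snd_mul, Prod.snd_mul, Prod.snd_inv, D.snd_z, tvv_conj, tvv_smul, D.Y_e1, om_add_right, om_self,
    om_smul_right, om_ev_ev, mul_zero, add_zero, mul_zero, zero_smul, add_zero]

theorem r_inv_z (s : F) : D.r⁻¹ * D.z s * D.r ∈ D.P := by
  rw [← D.r_z2 s, show D.r⁻¹ * (D.r * D.z2 s * D.r⁻¹) * D.r = D.z2 s by group]
  exact D.im_le_P (D.z2_mem s)

theorem r_inv_u {w : Vec n F} (hw : D.V' w) (h0 : om D.e2 w = 0) : D.r⁻¹ * D.u w * D.r ∈ D.P := by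
  have e : ∀ c : F, D.X c * D.u w * (D.X c)⁻¹ =
      D.u w * D.z (om w (c • D.f2) + -om (c • D.f2) w) := fun c => by
    have hc := inW_smul D.f2_V c
    calc D.X c * D.u w * (D.X c)⁻¹ = D.u (c • D.f2 + w) * D.z (om w (c • D.f2)) * (D.X c)⁻¹ := by
          rw [← D.u_mul hc hw]; rfl
      _ = D.u (c • D.f2 + w) * D.z (om (c • D.f2) w) * D.z (-om (c • D.f2) w) *
          D.z (om w (c • D.f2)) * (D.X c)⁻¹ := by
          rw [mul_assoc (D.u (c • D.f2 + w)) (D.z (om (c • D.f2) w)), D.z_add, add_neg_cancel, D.z_zero, mul_one]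
      _ = D.u w * (D.X c * D.z (-om (c • D.f2) w + om w (c • D.f2))) * (D.X c)⁻¹ := by
          rw [add_comm (c • D.f2), ← D.u_mul hw hc, mul_assoc _ (D.z _) (D.z _), D.z_add]
          simp only [mul_assoc]; rfl
      _ = _ := by
          rw [show D.X c * D.z _ = D.z _ * D.X c from D.u_comm_z hc _, ← mul_assoc, mul_inv_cancel_right,
            add_comm]
  have : D.r⁻¹ * D.u w * D.r =
      (D.X (-1))⁻¹ * ((D.Y (-1)) * (D.X 1 * D.u w * (D.X 1)⁻¹) * (D.Y (-1))⁻¹) * D.X (-1) := by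
    simp only [r]
    rw [show D.X 1 = (D.X (-1))⁻¹ by rw [D.X_inv, neg_neg],
      show D.Y (-1) = (D.Y 1)⁻¹ from (D.Y_inv 1).symm]
    group
  rw [this, e]
  refine mul_mem (mul_mem (inv_mem (D.X_P _)) ?_) (D.X_P _)
  rw [show ∀ a b c : H × Sp n F, a * (b * c) * a⁻¹ = (a * b * a⁻¹) * (a * c * a⁻¹) from
    fun a b c => by group]
  exact mul_mem (D.Y_u hw h0 _) (D.Y_z _ _)

end St

end CfsgLib.SympAmalgam
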