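import Cfsg.Agent.Lib.SympAmalgam.Basic

/-!
The inductive step: the elements of the graph group which lift the Siegel elements, their Heisenberg
relations, and the rank one relations of the short root elements.
-/

set_option autoImplicit false

namespace CfsgLib.SympAmalgam

open CfsgLib.Linear.Symp

/-- the data of an inductive step -/
structure St (n : ℕ) (F : Type*) [Field F] (H : Type*) [Group H] where
  C : Coh n F H
  k : ℕ
  hk : k + 1 < n
  lev : ∀ l, k < l → l ≤ n → C.Level l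
  hF : ∃ a : F, a ≠ 0 ∧ a ≠ 1

variable {n : ℕ} {F : Type*} [Field F] {H : Type*} [Group H]

theorem exists_ne_two (hF : ∃ a : F, a ≠ 0 ∧ a ≠ 1) (x : F) : ∃ c : F, c ≠ 0 ∧ c ≠ x := by
  obtain ⟨a, h0, h1⟩ := hF
  by_cases hx : x = 1
  · exact ⟨a, h0, hx ▸ h1⟩
  · exact ⟨1, one_ne_zero, Ne.symm hx⟩

theorem comm_Sset {j : Fin n} {g h : Sp n F} (hg : g ∈ Sset F j) (he : h • ev F j = ev F j)
    (hf : h • fv F j = fv F j) : g * h = h * g := by
  have : Sset F j ≤ Subgroup.centralizer {h} := by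
    refine (Sset_le_closure j).trans ((Subgroup.closure_le _).2 ?_)
    rintro _ ⟨c, rfl | rfl⟩ <;> rw [SetLike.mem_coe, Subgroup.mem_centralizer_singleton_iff]
    exacts [(commute_of_fix h c he).symm, (commute_of_fix h c hf).symm]
  exact Subgroup.mem_centralizer_singleton_iff.1 (this hg)

theorem Sset_ext {j : Fin n} {g h : Sp n F} (hg : g ∈ Sset F j) (hh : h ∈ Sset F j)
    (he : g • ev F j = h • ev F j) (hf : g • fv F j = h • fv F j) : g = h := by
  refine Subtype.ext (Matrix.ext_of_mulVec_single fun i => ?_)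
  rcases i with k | k <;> by_cases hk : k = j
  · subst hk; exact he
  · exact (mem_Sset.1 hg k hk).1.trans (mem_Sset.1 hh k hk).1.symm
  · subst hk; exact hf
  · exact (mem_Sset.1 hg k hk).2.trans (mem_Sset.1 hh k hk).2.symm

theorem qel_comm {e w : Vec n F} {g : Sp n F} (s : F) (h1 : g • e = e) (h2 : g • w = w) :
    g * qel e w s = qel e w s * g := by
  have := qel_conj g e w s
  rw [h1, h2] at this
  exact mul_inv_eq_iff_eq_mul.1 this

namespace St

variable (D : St n F H)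

/-- the first plane -/
def i1 : Fin n := ⟨D.k, by have := D.hk; omega⟩
/-- the second plane -/
def i2 : Fin n := ⟨D.k + 1, D.hk⟩
/-- the index of the block -/
def im : Idx n := .inr ⟨D.i1, D.hk⟩
/-- the index of the first plane -/
def a1 : Idx n := .inl D.i1
/-- the index of the second plane -/
def a2 : Idx n := .inl D.i2

/-- `e₁` -/
abbrev e1 : Vec n F := ev F D.i1
/-- `f₁` -/
abbrev f1 : Vec n F := fv F D.i1
/-- `e₂` -/
abbrev e2 : Vec n F := ev F D.i2
/-- `f₂` -/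
abbrev f2 : Vec n F := fv F D.i2

theorem i2_val : (D.i2 : ℕ) = D.i1 + 1 := rfl
theorem i1_val : (D.i1 : ℕ) = D.k := rfl

theorem ne12 : D.i1 ≠ D.i2 := fun e => by
  have := congrArg Fin.val e
  rw [D.i2_val] at this
  omega

theorem ne21 : D.i2 ≠ D.i1 := D.ne12.symm

/-- the smaller symplectic group -/
abbrev G' : Subgroup (Sp n F) := Gk n F (D.k + 1)
/-- the vectors of the smaller space -/
abbrev V' (x : Vec n F) : Prop := Vk (D.k + 1) x
/-- the smaller graph group -/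
abbrev E' : Subgroup (H × Sp n F) := D.C.Ek (D.k + 1)

theorem e2_V : D.V' D.e2 := ev_Vk le_rfl
theorem f2_V : D.V' D.f2 := fv_Vk le_rfl

theorem lev' : D.C.Level (D.k + 1) := D.lev _ (Nat.lt_succ_self _) (by have := D.hk; omega)

theorem G'_fix {g : Sp n F} (hg : g ∈ D.G') : g • D.e1 = D.e1 ∧ g • D.f1 = D.f1 :=
  hg D.i1 (mem_lo.2 (Nat.lt_succ_self _))

theorem V'_om {x : Vec n F} (hx : D.V' x) :
    om D.e1 x = 0 ∧ om x D.e1 = 0 ∧ om D.f1 x = 0 ∧ om x D.f1 = 0 :=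
  om_ev_Vk (Nat.lt_succ_self _) hx

theorem G'_V {g : Sp n F} (hg : g ∈ D.G') {x : Vec n F} (hx : D.V' x) : D.V' (g • x) := pairsFixer_inW hg hx

open Classical in
/-- the inverse of the smaller graph group -/
noncomputable def io (g : Sp n F) : H × Sp n F :=
  if h : ∃ x ∈ D.E', x.2 = g then h.choose else 1

theorem io_mem (g : Sp n F) : D.io g ∈ D.E' := by
  classical
  rw [io]
  split
  · rename_i h; exact h.choose_spec.1
  · exact one_mem _

theorem snd_io {g : Sp n F} (hg : g ∈ D.G') : (D.io g).2 = g := by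
  classical
  rw [io, dif_pos (D.lev'.2 g hg)]
  exact (D.lev'.2 g hg).choose_spec.2

theorem eq_io {x : H × Sp n F} (hx : x ∈ D.E') {g : Sp n F} (h : x.2 = g) : x = D.io g :=
  D.lev'.eq hx (D.io_mem g) (by rw [D.snd_io (h ▸ D.C.Ek_snd hx), h])

theorem io_mul {g g' : Sp n F} (hg : g ∈ D.G') (hg' : g' ∈ D.G') : D.io (g * g') = D.io g * D.io g' :=
  (D.eq_io (mul_mem (D.io_mem g) (D.io_mem g')) (by rw [Prod.snd_mul, D.snd_io hg, D.snd_io hg'])).symm

theorem io_one : D.io 1 = 1 := (D.eq_io (one_mem _) rfl).symm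

theorem io_inv {g : Sp n F} (hg : g ∈ D.G') : D.io g⁻¹ = (D.io g)⁻¹ :=
  (D.eq_io (inv_mem (D.io_mem g)) (by rw [Prod.snd_inv, D.snd_io hg])).symm

theorem lift_eq_io {b : Idx n} (hb : D.k + 1 ≤ lvl b) {g : Sp n F} (hg : g ∈ fam F b) :
    D.C.lift b g = D.io g :=
  D.eq_io (D.C.gr_le_Ek hb (D.C.lift_mem b g)) (D.C.snd_lift hg)

/-- the join of the first plane and the block -/
abbrev E1 : Subgroup (H × Sp n F) := D.C.gr D.im ⊔ D.C.gr D.a1
/-- the join of the second plane and the block -/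
abbrev E2 : Subgroup (H × Sp n F) := D.C.gr D.im ⊔ D.C.gr D.a2

theorem eq1 {x y : H × Sp n F} (hx : x ∈ D.E1) (hy : y ∈ D.E1) (h : x.2 = y.2) : x = y :=
  D.C.eq_of_snd hx hy h

theorem eq2 {x y : H × Sp n F} (hx : x ∈ D.E2) (hy : y ∈ D.E2) (h : x.2 = y.2) : x = y :=
  D.C.eq_of_snd hx hy h

theorem a2_le : D.C.gr D.a2 ≤ D.E' := D.C.gr_le_Ek (k := D.k + 1) (le_of_eq rfl)

theorem lift_a2 {g : Sp n F} (hg : g ∈ Sset F D.i2) : D.C.lift D.a2 g = D.io g :=
  D.lift_eq_io (b := D.a2) (le_of_eq rfl) hg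

theorem im_mem_Ek : D.C.gr D.im ≤ D.C.Ek D.k := D.C.gr_le_Ek (le_of_eq rfl)
theorem a1_mem_Ek : D.C.gr D.a1 ≤ D.C.Ek D.k := D.C.gr_le_Ek (le_of_eq rfl)
theorem io_mem_Ek (g : Sp n F) : D.io g ∈ D.C.Ek D.k := D.C.Ek_mono (Nat.le_succ _) (D.io_mem g)

/-- the first plane commutes with the smaller graph group -/
theorem comm_a1 {x y : H × Sp n F} (hx : x ∈ D.C.gr D.a1) (hy : y ∈ D.E') : x * y = y * x := by
  have : D.E' ≤ Subgroup.centralizer {x} := by
    refine D.C.Ek_le fun b hb y hy => Subgroup.mem_centralizer_singleton_iff.2 ?_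
    obtain ⟨h1, h2⟩ := D.G'_fix (fam_le_Gk hb (D.C.snd_mem hy))
    exact (D.C.commute_of_snd hx hy (comm_Sset (D.C.snd_mem hx) h1 h2)).symm
  exact (Subgroup.mem_centralizer_singleton_iff.1 (this hy)).symm

/-- lift of a short Siegel element -/
noncomputable def A (a : F) : H × Sp n F := D.C.lift D.im (qel D.e1 (a • D.e2) 0)
/-- lift of a long root element at `e₁` -/
noncomputable def z (s : F) : H × Sp n F := D.C.lift D.im (tvv D.e1 s)
/-- lift of a long root element at `e₂` -/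
noncomputable def z2 (s : F) : H × Sp n F := D.C.lift D.im (tvv D.e2 s)

theorem A_mem (a : F) : D.A a ∈ D.C.gr D.im := D.C.lift_mem _ _
theorem z_mem (s : F) : D.z s ∈ D.C.gr D.im := D.C.lift_mem _ _
theorem z2_mem (s : F) : D.z2 s ∈ D.C.gr D.im := D.C.lift_mem _ _

theorem snd_A (a : F) : (D.A a).2 = qel D.e1 (a • D.e2) 0 :=
  D.C.snd_lift (a := D.im) (qel_mem_Mset D.i2_val a 0)

theorem snd_z (s : F) : (D.z s).2 = tvv D.e1 s := D.C.snd_lift (a := D.im) (tvv_mem_Mset' D.i2_val s)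
theorem snd_z2 (s : F) : (D.z2 s).2 = tvv D.e2 s := D.C.snd_lift (a := D.im) (tvv_mem_Mset D.i2_val s)

theorem z_eq_a1 (s : F) : D.z s = D.C.lift D.a1 (tvv D.e1 s) :=
  D.eq1 (Subgroup.mem_sup_left (D.z_mem s)) (Subgroup.mem_sup_right (D.C.lift_mem _ _))
    (by rw [D.snd_z, D.C.snd_lift (a := D.a1) (tvv_ev_mem _ _)])

theorem z_mem_a1 (s : F) : D.z s ∈ D.C.gr D.a1 := by rw [D.z_eq_a1]; exact D.C.lift_mem _ _

theorem z2_eq_a2 (s : F) : D.z2 s = D.C.lift D.a2 (tvv D.e2 s) :=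
  D.eq2 (Subgroup.mem_sup_left (D.z2_mem s)) (Subgroup.mem_sup_right (D.C.lift_mem _ _))
    (by rw [D.snd_z2, D.C.snd_lift (a := D.a2) (tvv_ev_mem _ _)])

theorem z2_mem_a2 (s : F) : D.z2 s ∈ D.C.gr D.a2 := by rw [D.z2_eq_a2]; exact D.C.lift_mem _ _

theorem z2_eq_io (s : F) : D.z2 s = D.io (tvv D.e2 s) := by
  rw [D.z2_eq_a2, D.lift_a2 (tvv_ev_mem _ _)]

theorem z_add (s s' : F) : D.z s * D.z s' = D.z (s + s') :=
  D.C.eq_of_snd_one (mul_mem (D.z_mem s) (D.z_mem s')) (D.z_mem _)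
    (by rw [Prod.snd_mul, D.snd_z, D.snd_z, D.snd_z, tvv_add])

theorem z_zero : D.z 0 = 1 :=
  D.C.eq_of_snd_one (D.z_mem 0) (one_mem _) (by rw [D.snd_z, tvv_zero, Prod.snd_one])

theorem z_inv (s : F) : (D.z s)⁻¹ = D.z (-s) :=
  inv_eq_of_mul_eq_one_right (by rw [D.z_add, add_neg_cancel, D.z_zero])

theorem z_comm_io (s : F) (g : Sp n F) : D.z s * D.io g = D.io g * D.z s :=
  D.comm_a1 (D.z_mem_a1 s) (D.io_mem g)

/-- the stabiliser of `e₂` commutes with the short Siegel elements -/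
theorem comm_A {g : Sp n F} (hg : g ∈ D.G') (he : g • D.e2 = D.e2) (a : F) :
    D.io g * D.A a = D.A a * D.io g := by
  have hgen : ∀ b : Idx n, ∀ y ∈ D.C.gr b, y.2 • D.e1 = D.e1 → y.2 • D.e2 = D.e2 →
      y * D.A a = D.A a * y := fun b y hy h1 h2 =>
    D.C.commute_of_snd hy (D.A_mem a) (by rw [D.snd_A]; exact qel_comm 0 h1 (by rw [smul_comm, h2]))
  have hk := D.hk
  have hV := D.G'_V hg D.f2_V
  set s := -(g • D.f2) (.inl D.i2) with hs
  set w₀ := -(g • D.f2 - D.f2 + s • D.e2) with hw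
  have hr : (g • D.f2) (.inr D.i2) = 1 := by
    have := om_smul_smul g D.e2 D.f2
    rwa [he, om_ev_fv, om_ev_left] at this
  have hw0 : Vk (D.k + 2) w₀ := by
    intro j hj
    have hj' := mem_lo.1 hj
    by_cases hji : j = D.i2
    · subst hji
      simp [hw, hr, hs]
    · have hlt : (j : ℕ) < D.k + 1 := by
        by_contra hlt
        exact hji (Fin.ext (show (j : ℕ) = D.k + 1 by omega))
      obtain ⟨x1, x2⟩ := hV j (mem_lo.2 hlt)
      simp [hw, x1, x2, hji]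
  have hew : om D.e2 w₀ = 0 := (om_ev_Vk (show (D.i2 : ℕ) < D.k + 2 by simp [i2]) hw0).1
  have hfw : om D.f2 w₀ = 0 := (om_ev_Vk (show (D.i2 : ℕ) < D.k + 2 by simp [i2]) hw0).2.2.1
  have hw0' : D.V' w₀ := fun j hj => hw0 j (mem_lo.2 ((mem_lo.1 hj).trans (Nat.lt_succ_self _)))
  have hq0 : qel D.e2 w₀ 0 ∈ D.G' := qel_mem_Gk D.e2_V hw0' 0
  have ht : tvv D.e2 s ∈ D.G' := tvv_mem_Gk D.e2_V s
  have hqs : qel D.e2 w₀ s = qel D.e2 w₀ 0 * tvv D.e2 s := by
    rw [← qel_zero D.e2 s, qel_mul hew (om_zero_right _)]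
    simp [om_zero_left]
  have hqf : qel D.e2 w₀ s • D.f2 = g • D.f2 := by
    rw [qel_smul hew, om_fv_ev, hfw, hw]
    generalize g • D.f2 = y
    module
  have hqe : qel D.e2 w₀ s • D.e2 = D.e2 := qel_fix hew s (om_self _) hew
  set g₂ := (qel D.e2 w₀ s)⁻¹ * g with hg2
  have hg2G : g₂ ∈ Gk n F (D.k + 2) := by
    intro j hj
    have hj' := mem_lo.1 hj
    by_cases hji : j = D.i2
    · subst hji
      constructor
      · rw [hg2, mul_smul, inv_smul_eq_iff, hqe, he]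
      · rw [hg2, mul_smul, inv_smul_eq_iff, hqf]
    · have hlt : (j : ℕ) < D.k + 1 := by
        by_contra hlt
        exact hji (Fin.ext (show (j : ℕ) = D.k + 1 by omega))
      exact (mul_mem (inv_mem (qel_mem_Gk D.e2_V hw0' s)) hg) j (mem_lo.2 hlt)
  have hg2G' : g₂ ∈ D.G' := Gk_mono (Nat.le_succ _) hg2G
  have hcent : ∀ x ∈ D.C.Ek (D.k + 2), x * D.A a = D.A a * x := by
    intro x hx
    refine Subgroup.mem_centralizer_singleton_iff.1
      (D.C.Ek_le (K := Subgroup.centralizer {D.A a}) (fun b hb y hy =>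
        Subgroup.mem_centralizer_singleton_iff.2 ?_) hx)
    have hyG := fam_le_Gk hb (D.C.snd_mem hy)
    exact hgen b y hy (hyG D.i1 (mem_lo.2 (by rw [D.i1_val]; omega))).1
      (hyG D.i2 (mem_lo.2 (by simp [i2]))).1
  have p2 : D.io g₂ * D.A a = D.A a * D.io g₂ := by
    obtain ⟨x, hx, hx2⟩ := (D.lev (D.k + 2) (by omega) (by omega)).2 g₂ hg2G
    rw [← D.eq_io (D.C.Ek_mono (Nat.le_succ _) hx) hx2]
    exact hcent x hx
  have p1 : D.io (tvv D.e2 s) * D.A a = D.A a * D.io (tvv D.e2 s) := by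
    rw [← D.z2_eq_io]
    refine hgen _ _ (D.z2_mem s) ?_ ?_
    · rw [D.snd_z2, tvv_smul, om_ev_ev, mul_zero, zero_smul, add_zero]
    · rw [D.snd_z2, tvv_smul, om_self, mul_zero, zero_smul, add_zero]
  have p0 : D.io (qel D.e2 w₀ 0) * D.A a = D.A a * D.io (qel D.e2 w₀ 0) := by
    by_cases h0 : w₀ = 0
    · rw [h0, qel_zero, tvv_zero, D.io_one, one_mul, mul_one]
    · have hk2 : D.k + 2 < n := by
        by_contra hn
        exact h0 (vec_ext (fun j => (hw0 j (mem_lo.2 (by omega))).1)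
          (fun j => (hw0 j (mem_lo.2 (by omega))).2))
      set i3 : Fin n := ⟨D.k + 2, hk2⟩
      obtain ⟨h, hh, hhe⟩ := exists_Gk_smul (ev_Vk (k := D.k + 2) (j := i3) le_rfl) hw0 (by simp) h0
      have hh' : h ∈ D.G' := Gk_mono (Nat.le_succ _) hh
      have hhe1 : h • D.e2 = D.e2 := (hh D.i2 (mem_lo.2 (by simp [i2]))).1
      have hb : qel D.e2 ((1 : F) • ev F i3) 0 ∈ Mset F D.i2 := qel_mem_Mset (show _ = _ from rfl) 1 0
      have hb' : D.C.lift (.inr ⟨D.i2, hk2⟩) (qel D.e2 ((1 : F) • ev F i3) 0) =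
          D.io (qel D.e2 ((1 : F) • ev F i3) 0) := D.lift_eq_io (b := .inr ⟨D.i2, hk2⟩) le_rfl hb
      have hc1 : D.io (qel D.e2 ((1 : F) • ev F i3) 0) * D.A a = D.A a * D.io (qel D.e2 ((1 : F) • ev F i3) 0) := by
        rw [← hb']
        refine hgen _ _ (D.C.lift_mem _ _) ?_ ?_ <;> rw [D.C.snd_lift (a := .inr ⟨D.i2, hk2⟩) hb]
        · exact (mem_Mset.1 hb).1 _
        · exact (mem_Mset.1 hb).1 _
      obtain ⟨x, hx, hx2⟩ := (D.lev (D.k + 2) (by omega) (by omega)).2 h hh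
      have hc2 : D.io h * D.A a = D.A a * D.io h := by
        rw [← D.eq_io (D.C.Ek_mono (Nat.le_succ _) hx) hx2]
        exact hcent x hx
      have hqG : qel D.e2 ((1 : F) • ev F i3) 0 ∈ D.G' :=
        qel_mem_Gk D.e2_V (inW_smul (ev_Vk (by simp [i3])) 1) 0
      have hconj : qel D.e2 w₀ 0 = h * qel D.e2 ((1 : F) • ev F i3) 0 * h⁻¹ := by
        rw [qel_conj, hhe1, one_smul, hhe]
      rw [hconj, D.io_mul (mul_mem hh' hqG) (inv_mem hh'), D.io_mul hh' hqG, D.io_inv hh']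
      exact ((Commute.mul_left (Commute.mul_left hc2 hc1) (Commute.inv_left hc2)) : Commute _ _)
  have hdec : g = qel D.e2 w₀ 0 * tvv D.e2 s * g₂ := by rw [← hqs, hg2, mul_inv_cancel_left]
  rw [hdec, D.io_mul (mul_mem hq0 ht) hg2G', D.io_mul hq0 ht]
  exact ((Commute.mul_left (Commute.mul_left p0 p1) p2) : Commute _ _)

open Classical in
/-- lift of a Siegel element of the smaller space -/
noncomputable def u (w : Vec n F) : H × Sp n F :=
  if h : ∃ g ∈ D.G', g • D.e2 = w then D.io h.choose * D.A 1 * (D.io h.choose)⁻¹ else 1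

theorem e2_ne : D.e2 ≠ 0 := by simp

theorem u_eq {g : Sp n F} (hg : g ∈ D.G') {w : Vec n F} (hw : g • D.e2 = w) :
    D.u w = D.io g * D.A 1 * (D.io g)⁻¹ := by
  classical
  have h : ∃ g ∈ D.G', g • D.e2 = w := ⟨g, hg, hw⟩
  rw [u, dif_pos h]
  obtain ⟨hcG, hce⟩ := h.choose_spec
  set g' := h.choose
  have hm : g⁻¹ * g' ∈ D.G' := mul_mem (inv_mem hg) hcG
  have := D.comm_A hm (by rw [mul_smul, hce, inv_smul_eq_iff, hw]) 1
  rw [D.io_mul (inv_mem hg) hcG, D.io_inv hg] at this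
  calc D.io g' * D.A 1 * (D.io g')⁻¹ = D.io g * ((D.io g)⁻¹ * D.io g' * D.A 1) * (D.io g')⁻¹ := by group
    _ = D.io g * (D.A 1 * ((D.io g)⁻¹ * D.io g')) * (D.io g')⁻¹ := by rw [this]
    _ = _ := by group

theorem u_zero : D.u 0 = 1 := by
  classical
  rw [u, dif_neg]
  rintro ⟨g, -, hg⟩
  exact D.e2_ne ((smul_eq_zero_iff_eq g).1 hg)

theorem u_cases {w : Vec n F} (hw : D.V' w) : w = 0 ∨ ∃ g ∈ D.G', g • D.e2 = w := by
  by_cases h : w = 0
  · exact Or.inl h
  · exact Or.inr (exists_Gk_smul D.e2_V hw D.e2_ne h)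

theorem snd_u {w : Vec n F} (hw : D.V' w) : (D.u w).2 = qel D.e1 w 0 := by
  rcases D.u_cases hw with rfl | ⟨g, hg, rfl⟩
  · rw [D.u_zero, qel_zero, tvv_zero, Prod.snd_one]
  · rw [D.u_eq hg rfl, Prod.snd_mul, Prod.snd_mul, Prod.snd_inv, D.snd_io hg, D.snd_A, one_smul, qel_conj,
      (D.G'_fix hg).1]

theorem u_mem_Ek (w : Vec n F) : D.u w ∈ D.C.Ek D.k := by
  classical
  rw [u]
  split
  · exact mul_mem (mul_mem (D.io_mem_Ek _) (D.im_mem_Ek (D.A_mem 1))) (inv_mem (D.io_mem_Ek _))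
  · exact one_mem _

theorem u_conj {g : Sp n F} (hg : g ∈ D.G') {w : Vec n F} (hw : D.V' w) :
    D.io g * D.u w * (D.io g)⁻¹ = D.u (g • w) := by
  rcases D.u_cases hw with rfl | ⟨h, hh, rfl⟩
  · rw [smul_zero, D.u_zero, mul_one, mul_inv_cancel]
  · rw [D.u_eq hh rfl, D.u_eq (mul_mem hg hh) (mul_smul g h D.e2), D.io_mul hg hh]
    group

theorem io_u {g : Sp n F} (hg : g ∈ D.G') {w : Vec n F} (hw : D.V' w) :
    D.io g * D.u w = D.u (g • w) * D.io g := by rw [← D.u_conj hg hw]; group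

theorem u_smul_e2 (a : F) : D.u (a • D.e2) = D.A a := by
  by_cases ha : a = 0
  · subst ha
    rw [zero_smul, D.u_zero]
    exact D.C.eq_of_snd_one (one_mem _) (D.A_mem 0) (by rw [D.snd_A, zero_smul, qel_zero, tvv_zero, Prod.snd_one])
  · rw [D.u_eq (Sset_le_Gk (k := D.k + 1) (le_of_eq rfl) (tor_mem D.i2 a)) (tor_ev D.i2 ha),
      ← D.lift_a2 (tor_mem _ _)]
    refine D.eq2 ?_ (Subgroup.mem_sup_left (D.A_mem a)) ?_
    · exact mul_mem (mul_mem (Subgroup.mem_sup_right (D.C.lift_mem _ _)) (Subgroup.mem_sup_left (D.A_mem 1)))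
        (inv_mem (Subgroup.mem_sup_right (D.C.lift_mem _ _)))
    · rw [Prod.snd_mul, Prod.snd_mul, Prod.snd_inv, D.C.snd_lift (a := D.a2) (tor_mem _ _), D.snd_A, D.snd_A,
        one_smul, qel_conj, tor_ev D.i2 ha, (D.G'_fix (Sset_le_Gk (k := D.k + 1) (le_of_eq rfl) (tor_mem D.i2 a))).1]

theorem u_comm_z {w : Vec n F} (hw : D.V' w) (s : F) : D.u w * D.z s = D.z s * D.u w := by
  rcases D.u_cases hw with rfl | ⟨g, hg, rfl⟩
  · rw [D.u_zero, one_mul, mul_one]
  · have h1 : Commute (D.io g) (D.z s) := (D.z_comm_io s g).symm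
    have h2 : Commute (D.A 1) (D.z s) := D.C.commute_of_snd (D.A_mem 1) (D.z_mem s) (by
      rw [D.snd_A, D.snd_z]
      exact commute_of_fix _ s (qel_fix (by simp [om_smul_right, om_ev_ev]) 0 (om_self _)
        (by simp [om_smul_right, om_ev_ev])))
    rw [D.u_eq hg rfl]
    exact ((h1.mul_left h2).mul_left h1.inv_left).eq

/-- `x_v` lies in the join of the block and the second plane for `v` in the second plane -/
theorem u_plane (a b : F) : D.u (a • D.e2 + b • D.f2) ∈ D.E2 := by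
  by_cases h : a • D.e2 + b • D.f2 = 0
  · rw [h, D.u_zero]; exact one_mem _
  · obtain ⟨g, hg, hge⟩ := exists_smul_eq_inW (S := Finset.univ.erase D.i2) (u := D.e2)
      (u' := a • D.e2 + b • D.f2)
      (fun j hj => by simp [Finset.ne_of_mem_erase hj])
      (fun j hj => by simp [Finset.ne_of_mem_erase hj]) D.e2_ne h
    have hS : g ∈ Sset F D.i2 := fun j hj => transvectionSubgroupW_fix hg hj
    rw [D.u_eq (Sset_le_Gk (k := D.k + 1) (le_of_eq rfl) hS) hge, ← D.lift_a2 hS]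
    exact mul_mem (mul_mem (Subgroup.mem_sup_right (D.C.lift_mem _ _)) (Subgroup.mem_sup_left (D.A_mem 1)))
      (inv_mem (Subgroup.mem_sup_right (D.C.lift_mem _ _)))

theorem snd_uz {w : Vec n F} (hw : D.V' w) (s : F) : (D.u w * D.z s).2 = qel D.e1 w s := by
  rw [Prod.snd_mul, D.snd_u hw, D.snd_z, ← qel_zero D.e1 s, qel_mul (D.V'_om hw).1 (om_zero_right _),
    om_zero_left]
  simp

theorem u_mul_plane {g : Sp n F} (hg : g ∈ D.G') (a b a' b' : F) :
    D.u (g • (a • D.e2 + b • D.f2)) * D.u (g • (a' • D.e2 + b' • D.f2)) =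
      D.u (g • (a • D.e2 + b • D.f2) + g • (a' • D.e2 + b' • D.f2)) *
        D.z (om (g • (a' • D.e2 + b' • D.f2)) (g • (a • D.e2 + b • D.f2))) := by
  have hv : ∀ c d : F, D.V' (c • D.e2 + d • D.f2) := fun c d =>
    inW_add (inW_smul D.e2_V c) (inW_smul D.f2_V d)
  set v := a • D.e2 + b • D.f2 with hvd
  set v' := a' • D.e2 + b' • D.f2 with hvd'
  have key : D.u v * D.u v' = D.u (v + v') * D.z (om v' v) := by
    refine D.eq2 (mul_mem (D.u_plane a b) (D.u_plane a' b')) (mul_mem ?_ (Subgroup.mem_sup_left (D.z_mem _))) ?_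
    · rw [show v + v' = (a + a') • D.e2 + (b + b') • D.f2 by rw [hvd, hvd']; module]
      exact D.u_plane _ _
    · rw [D.snd_uz (inW_add (hv a b) (hv a' b')), Prod.snd_mul, D.snd_u (hv a b), D.snd_u (hv a' b'),
        qel_mul (D.V'_om (hv a b)).1 (D.V'_om (hv a' b')).1, zero_add, zero_add]
  have hz := D.z_comm_io (om v' v) g
  rw [← smul_add, om_smul_smul, ← D.u_conj hg (hv a b), ← D.u_conj hg (hv a' b'),
    ← D.u_conj hg (inW_add (hv a b) (hv a' b'))]
  simp only [← hvd, ← hvd']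
  calc _ = D.io g * (D.u v * D.u v') * (D.io g)⁻¹ := by group
    _ = D.io g * (D.u (v + v') * D.z (om v' v)) * (D.io g)⁻¹ := by rw [key]
    _ = D.io g * D.u (v + v') * (D.io g)⁻¹ * (D.io g * D.z (om v' v) * (D.io g)⁻¹) := by group
    _ = _ := by rw [← hz, mul_inv_cancel_right]

/-- the Heisenberg relations -/
theorem u_mul {w w' : Vec n F} (hw : D.V' w) (hw' : D.V' w') :
    D.u w * D.u w' = D.u (w + w') * D.z (om w' w) := by
  have generic : ∀ {x y : Vec n F}, D.V' x → D.V' y → om y x ≠ 0 →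
      D.u x * D.u y = D.u (x + y) * D.z (om y x) := by
    intro x y hx hy hne
    have hxy : om x y ≠ 0 := by rw [om_swap, neg_ne_zero]; exact hne
    obtain ⟨g, hg, e1, e2⟩ := exists_Gk_smul_pair D.e2_V D.f2_V hx (inW_smul hy (om x y)⁻¹)
      (om_ev_fv _) (by rw [om_smul_right, inv_mul_cancel₀ hxy])
    have hx' : g • ((1 : F) • D.e2 + (0 : F) • D.f2) = x := by
      rw [one_smul, zero_smul, add_zero, e1]
    have hy' : g • ((0 : F) • D.e2 + om x y • D.f2) = y := by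
      rw [zero_smul, zero_add, smul_comm, e2, smul_inv_smul₀ hxy]
    have := D.u_mul_plane hg 1 0 0 (om x y)
    rwa [hx', hy'] at this
  by_cases hne : om w' w ≠ 0
  · exact generic hw hw' hne
  push Not at hne
  rcases D.u_cases hw with rfl | ⟨g, hg, hge⟩
  · rw [D.u_zero, one_mul, zero_add, om_zero_right, D.z_zero, mul_one]
  set v := g⁻¹ • w' with hv
  have hvV : D.V' v := D.G'_V (inv_mem hg) hw'
  have hgv : g • v = w' := by rw [hv, smul_inv_smul]
  have hb : v (.inr D.i2) = 0 := by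
    have e := om_smul_smul g D.e2 v
    rw [hge, hgv, om_swap, hne, neg_zero, om_ev_left] at e
    exact e.symm
  set a := v (.inl D.i2) with ha
  set v'' := v - a • D.e2 with hv''
  have hv''V : Vk (D.k + 2) v'' := by
    intro j hj
    have hj' := mem_lo.1 hj
    by_cases hji : j = D.i2
    · subst hji
      simp [hv'', hb, ha]
    · have hlt : (j : ℕ) < D.k + 1 := by
        by_contra hlt
        exact hji (Fin.ext (show (j : ℕ) = D.k + 1 by omega))
      obtain ⟨x1, x2⟩ := hvV j (mem_lo.2 hlt)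
      simp [hv'', x1, x2, hji]
  by_cases h0 : v'' = 0
  · have hva : v = a • D.e2 := sub_eq_zero.1 h0
    have hx' : g • ((1 : F) • D.e2 + (0 : F) • D.f2) = w := by
      rw [one_smul, zero_smul, add_zero, hge]
    have hy' : g • (a • D.e2 + (0 : F) • D.f2) = w' := by rw [zero_smul, add_zero, ← hva, hgv]
    have := D.u_mul_plane hg 1 0 a 0
    rwa [hx', hy'] at this
  obtain ⟨c, hc0, hc1⟩ := exists_ne_two D.hF (-1)
  obtain ⟨y₀, hy₀, hy₀ne⟩ := exists_form_ne_zero_inW h0 hv''V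
  have hy₀' : om v'' y₀ ≠ 0 := by rwa [om, form_swap, neg_ne_zero]
  set y'' := ((c - a) / om v'' y₀) • y₀ with hy''
  have hy''V : Vk (D.k + 2) y'' := inW_smul hy₀ _
  have hlt2 : (D.i2 : ℕ) < D.k + 2 := by simp [i2]
  have hy''V' : D.V' y'' := fun j hj => hy''V j (mem_lo.2 ((mem_lo.1 hj).trans (Nat.lt_succ_self _)))
  set y := g • (D.f2 + y'') with hy
  have hyV : D.V' y := D.G'_V hg (inW_add D.f2_V hy''V')
  have o1 : om w y = 1 := by
    rw [hy, ← hge, om_smul_smul, om_add_right, om_ev_fv, (om_ev_Vk hlt2 hy''V).1, add_zero]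
  have o2 : om w' y = c := by
    have hd : v = a • D.e2 + v'' := by rw [hv'']; abel
    rw [hy, ← hgv, om_smul_smul, hd]
    simp only [om_add_left, om_add_right, om_smul_left, om_ev_fv, (om_ev_Vk hlt2 hy''V).1,
      (om_ev_Vk hlt2 hv''V).2.2.2]
    rw [hy'', om_smul_right, div_mul_cancel₀ _ hy₀']
    ring
  have hsub : D.V' (w' - y) := inW_sub hw' hyV
  have s1 : D.u (w' - y) * D.u y = D.u w' * D.z (-c) := by
    have e : om y (w' - y) = -c := by rw [om_sub_right, om_self, sub_zero, om_swap, o2]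
    rw [generic hsub hyV (by rw [e, neg_ne_zero]; exact hc0), sub_add_cancel, e]
  have s2 : D.u w * D.u (w' - y) = D.u (w + w' - y) * D.z 1 := by
    have e : om (w' - y) w = 1 := by rw [om_sub_left, hne, zero_sub, ← om_swap, o1]
    rw [generic hw hsub (by rw [e]; exact one_ne_zero), e, add_sub_assoc]
  have hsub2 : D.V' (w + w' - y) := inW_sub (inW_add hw hw') hyV
  have s3 : D.u (w + w' - y) * D.u y = D.u (w + w') * D.z (-1 - c) := by
    have e : om y (w + w' - y) = -1 - c := by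
      rw [om_sub_right, om_add_right, om_self, sub_zero, om_swap, o1, om_swap w', o2]
      ring
    have hne' : (-1 - c : F) ≠ 0 := fun h => hc1 (by linear_combination -h)
    rw [generic hsub2 hyV (by rw [e]; exact hne'), sub_add_cancel, e]
  rw [hne, D.z_zero, mul_one]
  calc D.u w * D.u w' = D.u w * (D.u w' * D.z (-c)) * D.z c := by
        rw [mul_assoc, mul_assoc, D.z_add, neg_add_cancel, D.z_zero, mul_one]
    _ = D.u w * (D.u (w' - y) * D.u y) * D.z c := by rw [s1]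
    _ = (D.u w * D.u (w' - y)) * D.u y * D.z c := by simp only [mul_assoc]
    _ = D.u (w + w' - y) * (D.z 1 * D.u y) * D.z c := by rw [s2]; simp only [mul_assoc]
    _ = (D.u (w + w' - y) * D.u y) * D.z 1 * D.z c := by rw [← D.u_comm_z hyV]; simp only [mul_assoc]
    _ = _ := by
      rw [s3, mul_assoc, mul_assoc, D.z_add, D.z_add, show -1 - c + (1 + c) = (0 : F) by ring, D.z_zero,
        mul_one]

theorem u_inv {w : Vec n F} (hw : D.V' w) : (D.u w)⁻¹ = D.u (-w) :=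
  inv_eq_of_mul_eq_one_right (by
    rw [D.u_mul hw (Vk_neg hw), add_neg_cancel, D.u_zero, om_neg_left, om_self, neg_zero, D.z_zero, mul_one])

/-- the parabolic subgroup -/
def P : Subgroup (H × Sp n F) where
  carrier := {x | ∃ g ∈ D.G', ∃ w, D.V' w ∧ ∃ s, x = D.io g * D.u w * D.z s}
  one_mem' := ⟨1, one_mem _, 0, Vk_zero _, 0, by rw [D.io_one, D.u_zero, D.z_zero, mul_one, mul_one]⟩
  mul_mem' := by
    rintro _ _ ⟨g, hg, w, hw, s, rfl⟩ ⟨g', hg', w', hw', s', rfl⟩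
    have hv : D.V' (g'⁻¹ • w) := D.G'_V (inv_mem hg') hw
    refine ⟨g * g', mul_mem hg hg', g'⁻¹ • w + w', inW_add hv hw', om w' (g'⁻¹ • w) + (s + s'), ?_⟩
    have e1 : D.u w * D.io g' = D.io g' * D.u (g'⁻¹ • w) := by
      rw [D.io_u hg' hv, smul_inv_smul]
    calc D.io g * D.u w * D.z s * (D.io g' * D.u w' * D.z s')
        = D.io g * D.u w * (D.z s * D.io g') * D.u w' * D.z s' := by group
      _ = D.io g * (D.u w * D.io g') * (D.z s * D.u w') * D.z s' := by rw [D.z_comm_io]; group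
      _ = D.io g * D.io g' * (D.u (g'⁻¹ • w) * D.u w') * (D.z s * D.z s') := by
        rw [e1, ← D.u_comm_z hw']; group
      _ = D.io (g * g') * D.u (g'⁻¹ • w + w') * (D.z (om w' (g'⁻¹ • w)) * D.z (s + s')) := by
        rw [D.u_mul hv hw', D.z_add s, ← D.io_mul hg hg']; group
      _ = _ := by rw [D.z_add]
  inv_mem' := by
    rintro _ ⟨g, hg, w, hw, s, rfl⟩
    refine ⟨g⁻¹, inv_mem hg, -(g • w), Vk_neg (D.G'_V hg hw), -s, ?_⟩
    rw [mul_inv_rev, mul_inv_rev, D.z_inv, D.u_inv hw, D.io_inv hg]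
    have : D.u (-w) * (D.io g)⁻¹ = (D.io g)⁻¹ * D.u (-(g • w)) := by
      rw [← smul_neg, ← D.u_conj hg (Vk_neg hw)]; group
    calc D.z (-s) * (D.u (-w) * (D.io g)⁻¹) = D.z (-s) * (D.io g⁻¹ * D.u (-(g • w))) := by
          rw [this, D.io_inv hg]
      _ = D.io g⁻¹ * (D.z (-s) * D.u (-(g • w))) := by rw [← mul_assoc, D.z_comm_io, mul_assoc]
      _ = _ := by rw [← D.u_comm_z (Vk_neg (D.G'_V hg hw)), D.io_inv hg, mul_assoc]

theorem io_P {g : Sp n F} (hg : g ∈ D.G') : D.io g ∈ D.P :=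
  ⟨g, hg, 0, Vk_zero _, 0, by rw [D.u_zero, D.z_zero, mul_one, mul_one]⟩

theorem u_P {w : Vec n F} (hw : D.V' w) : D.u w ∈ D.P :=
  ⟨1, one_mem _, w, hw, 0, by rw [D.io_one, D.z_zero, one_mul, mul_one]⟩

theorem z_P (s : F) : D.z s ∈ D.P :=
  ⟨1, one_mem _, 0, Vk_zero _, s, by rw [D.io_one, D.u_zero, one_mul, one_mul]⟩

theorem P_le_Ek : D.P ≤ D.C.Ek D.k := by
  rintro _ ⟨g, -, w, -, s, rfl⟩
  exact mul_mem (mul_mem (D.io_mem_Ek g) (D.u_mem_Ek w)) (D.im_mem_Ek (D.z_mem s))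

theorem E'_le_P : D.E' ≤ D.P := fun x hx => by
  rw [D.eq_io hx rfl]; exact D.io_P (D.C.Ek_snd hx)

theorem P_fix {x : H × Sp n F} (hx : x ∈ D.P) : x.2 • D.e1 = D.e1 := by
  obtain ⟨g, hg, w, hw, s, rfl⟩ := hx
  rw [mul_assoc, Prod.snd_mul, D.snd_uz hw, D.snd_io hg, mul_smul,
    qel_fix (D.V'_om hw).1 s (om_self _) (D.V'_om hw).1, (D.G'_fix hg).1]

theorem P_eq_one {x : H × Sp n F} (hx : x ∈ D.P) (h : x.2 = 1) : x = 1 := by
  obtain ⟨g, hg, w, hw, s, rfl⟩ := hx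
  rw [mul_assoc, Prod.snd_mul, D.snd_uz hw, D.snd_io hg] at h
  have h1 : qel D.e1 w s • D.f1 = g⁻¹ • D.f1 := by
    rw [show qel D.e1 w s = g⁻¹ from eq_inv_of_mul_eq_one_right h]
  rw [(D.G'_fix (inv_mem hg)).2, qel_smul (D.V'_om hw).1, om_fv_ev, (D.V'_om hw).2.2.1] at h1
  have hs : s = 0 := by
    have := congrFun h1 (.inl D.i1)
    simpa [(hw D.i1 (mem_lo.2 (Nat.lt_succ_self _))).1] using this
  have hw0 : w = 0 := by
    have h3 : -w = 0 := by
      subst hs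
      have := sub_eq_zero.2 h1
      rw [← this]
      module
    exact neg_eq_zero.1 h3
  subst hs hw0
  rw [qel_zero, tvv_zero, mul_one] at h
  rw [h, D.io_one, D.u_zero, D.z_zero, mul_one, mul_one]

theorem im_le_P : D.C.gr D.im ≤ D.P := by
  intro x hx
  obtain ⟨a, s, t, he⟩ := Mset_decomp D.i2_val (D.C.snd_mem hx)
  have : x = D.A a * D.z s * D.z2 t := D.C.eq_of_snd_one hx
    (mul_mem (mul_mem (D.A_mem a) (D.z_mem s)) (D.z2_mem t))
    (by rw [he, Prod.snd_mul, Prod.snd_mul, D.snd_A, D.snd_z, D.snd_z2])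
  rw [this, ← D.u_smul_e2, D.z2_eq_io]
  exact mul_mem (mul_mem (D.u_P (inW_smul D.e2_V a)) (D.z_P s)) (D.io_P (tvv_mem_Gk D.e2_V t))

theorem E2_le_P : D.E2 ≤ D.P := sup_le D.im_le_P (D.a2_le.trans D.E'_le_P)

/-- elements of the first join fixing `e₁` are parabolic -/
theorem E1_fix {x : H × Sp n F} (hx : x ∈ D.E1) (h : x.2 • D.e1 = D.e1) : x ∈ D.P := by
  let K : Subgroup (H × Sp n F) := (fixingSubgroup (Sp n F) {v : Vec n F | (∃ j, j ≠ D.i1 ∧ v = ev F j) ∨
    ∃ j : Fin n, (j : ℕ) ≠ D.i1 ∧ (j : ℕ) ≠ (D.i1 : ℕ) + 1 ∧ v = fv F j}).comap (MonoidHom.snd H (Sp n F))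
  have hK : D.E1 ≤ K := by
    refine sup_le ?_ ?_
    · intro y hy
      refine (mem_fixingSubgroup_iff _).2 ?_
      rintro v (⟨j, -, rfl⟩ | ⟨j, a, b, rfl⟩)
      exacts [(mem_Mset.1 (D.C.snd_mem hy)).1 j, (mem_Mset.1 (D.C.snd_mem hy)).2 j a b]
    · intro y hy
      refine (mem_fixingSubgroup_iff _).2 ?_
      rintro v (⟨j, a, rfl⟩ | ⟨j, a, b, rfl⟩)
      exacts [(mem_Sset.1 (D.C.snd_mem hy) j a).1,
        (mem_Sset.1 (D.C.snd_mem hy) j (fun e => a (congrArg Fin.val e))).2]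
  have hfix := (mem_fixingSubgroup_iff _).1 (hK hx)
  have hM : x.2 ∈ fam F D.im := by
    refine mem_Mset.2 ⟨fun j => ?_, fun j a b => hfix _ (Or.inr ⟨j, a, b, rfl⟩)⟩
    by_cases hj : j = D.i1
    · subst hj; exact h
    · exact hfix _ (Or.inl ⟨j, hj, rfl⟩)
  rw [D.eq1 hx (Subgroup.mem_sup_left (D.C.lift_mem D.im x.2)) (D.C.snd_lift hM).symm]
  exact D.im_le_P (D.C.lift_mem _ _)

end St

end CfsgLib.SympAmalgam
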